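import Groth.Agent.GrpdSep.Irred

/-!
The component of the identity of a groupoid over a field is geometrically irreducible.
-/

set_option autoImplicit false
set_option linter.style.haveILetI false
set_option backward.isDefEq.respectTransparency false

universe u

open CategoryTheory CategoryTheory.Limits AlgebraicGeometry Grpd

namespace Groth.Agent.GrpdSep

variable {S : Scheme.{u}} (G : GroupoidScheme S) {k : Type u} [Field k] (eU : G.U ≅ Spec (CommRingCat.of k))

theorem inv_inv : G.i ≫ G.i = 𝟙 G.R := by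
  have h1 := cancel_left' G (β := G.i) (α := 𝟙 G.R) (by rw [G.i_s, Category.id_comp])
  have h2 : mulPt G G.i (𝟙 G.R) (by rw [G.i_s, Category.id_comp]) = ((G.i ≫ G.i) ≫ G.s) ≫ G.e := by
    refine (mulPt_congr G _ (Category.id_comp G.i).symm rfl).trans ((mulPt_inv_left G (𝟙 G.R)).trans ?_)
    rw [Category.id_comp, Category.assoc G.i, G.i_s, G.i_t]
  exact (mulPt_unit_right G (G.i ≫ G.i)).symm.trans ((mulPt_congr G _ rfl h2.symm).trans h1)

instance : IsIso G.i := ⟨G.i, inv_inv G, inv_inv G⟩

include eU in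
/-- Generalizations of the identity in a geometric fibre of `s`. -/
theorem exists_generalization_pullback {L : Type u} [Field L] (f : Spec (CommRingCat.of L) ⟶ Spec (CommRingCat.of k))
    (e' : Spec (CommRingCat.of L) ⟶ pullback (G.s ≫ eU.hom) f)
    (he₁ : e' ≫ pullback.fst _ _ = (f ≫ eU.inv) ≫ G.e) (he₂ : e' ≫ pullback.snd _ _ = 𝟙 _)
    (m n : ↥(pullback (G.s ≫ eU.hom) f)) (hm : m ⤳ e' (IsLocalRing.closedPoint L))
    (hn : n ⤳ e' (IsLocalRing.closedPoint L)) : ∃ d, d ⤳ m ∧ d ⤳ n := by
  let g := f ≫ eU.inv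
  let G' := restrict G g
  let π₁ : resR G g ⟶ pullback G.s g :=
    pullback.map (pullback.snd g G.t ≫ G.s) g G.s g (pullback.snd g G.t) (𝟙 _) (𝟙 _) (by simp) (by simp)
  let π₂ : pullback G.s g ⟶ pullback (G.s ≫ eU.hom) f :=
    pullback.map G.s g (G.s ≫ eU.hom) f (𝟙 _) (𝟙 _) eU.hom (by simp) (by simp [g])
  haveI : Flat f := inferInstance
  haveI : Flat (f ≫ eU.inv) := inferInstance
  haveI : Flat (pullback.snd g G.t) := inferInstanceAs (Flat (pullback.snd (f ≫ eU.inv) G.t))
  haveI : Flat π₁ := MorphismProperty.pullbackMap (P := @Flat) (by infer_instance) (by infer_instance)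
    (Category.comp_id _) (Category.id_comp g).symm
  haveI : IsIso π₂ := pullback.map_isIso _ _ _ _ _ _ _ _ _
  let π := π₁ ≫ π₂
  haveI : Flat π := inferInstanceAs (Flat (π₁ ≫ π₂))
  have hπ : G'.e ≫ π = e' := by
    apply pullback.hom_ext
    · rw [he₁]
      simp only [π, π₁, π₂, G', Category.assoc, pullback.lift_fst, pullback.lift_fst_assoc, Category.comp_id]
      exact resMk_arr G g _ _ _ _ (by simp [G.e_s]; exact (Category.id_comp g).symm)
    · rw [he₂]
      simp only [π, π₁, π₂, G', Category.assoc, pullback.lift_snd, pullback.lift_snd_assoc, Category.comp_id]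
      exact resMk_s G g _ _ _ _ (by simp [G.e_s]; exact (Category.id_comp g).symm)
  rw [← hπ, Scheme.Hom.comp_apply] at hm hn
  obtain ⟨m', hm', rfl⟩ := Flat.generalizingMap π hm
  obtain ⟨n', hn', rfl⟩ := Flat.generalizingMap π hn
  obtain ⟨d, hdm, hdn⟩ := exists_generalization G' (k := L) (Iso.refl _) _ m' n' hm' hn'
  exact ⟨π d, hdm.map π.continuous, hdn.map π.continuous⟩

include eU in
theorem geometricallyIrreducible_component_s {Z : Scheme.{u}} (incl : Z ⟶ G.R) [IsClosedImmersion incl]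
    (hZ : Set.range incl ∈ irreducibleComponents G.R)
    (he : G.e (eU.inv (IsLocalRing.closedPoint k)) ∈ Set.range incl) :
    GeometricallyIrreducible (incl ≫ G.s ≫ eU.hom) := by
  let L := AlgebraicClosure k
  let f : Spec (CommRingCat.of L) ⟶ Spec (CommRingCat.of k) := Spec.map (CommRingCat.ofHom (algebraMap k L))
  haveI : IsIntegralHom f := IsIntegralHom.SpecMap_iff.2 (algebraMap_isIntegral_iff.2 inferInstance)
  haveI : Surjective f := ⟨Function.surjective_to_subsingleton (α := PrimeSpectrum L) (β := PrimeSpectrum k) _⟩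
  let p := pullback.fst (G.s ≫ eU.hom) f
  haveI : Flat p := inferInstanceAs (Flat (pullback.fst (G.s ≫ eU.hom) f))
  haveI : IsIntegralHom p := inferInstanceAs (IsIntegralHom (pullback.fst (G.s ≫ eU.hom) f))
  have gen := Flat.generalizingMap p
  let ε : Spec (CommRingCat.of k) ⟶ G.R := eU.inv ≫ G.e
  have hε : ε ≫ G.s ≫ eU.hom = 𝟙 _ := by simp [ε, reassoc_of% G.e_s]
  let e : Spec (CommRingCat.of L) ⟶ pullback (G.s ≫ eU.hom) f :=
    pullback.lift (f ≫ ε) (𝟙 _) (by rw [Category.assoc, hε, Category.comp_id, Category.id_comp])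
  have hfib : ∀ z, p z = ε (IsLocalRing.closedPoint k) → z = e (IsLocalRing.closedPoint L) := by
    intro z hz
    have h : IsPullback e f p ε := by
      refine IsPullback.of_right (h₁₂ := pullback.snd (G.s ≫ eU.hom) f) (h₁₁ := e)
        (v₁₁ := f) (v₁₂ := p) (h₂₁ := ε) ?_ (pullback.lift_fst _ _ _)
        (IsPullback.of_hasPullback (G.s ≫ eU.hom) f).flip
      rw [hε, show e ≫ pullback.snd (G.s ≫ eU.hom) f = 𝟙 _ from pullback.lift_snd _ _ _]
      exact IsPullback.id_horiz f
    obtain ⟨w, hw, -⟩ := Scheme.exists_preimage_of_isPullback h z (IsLocalRing.closedPoint k) hz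
    rw [← hw, Subsingleton.elim (α := PrimeSpectrum L) w (IsLocalRing.closedPoint L)]
  set C := Set.range incl
  have heC : ε (IsLocalRing.closedPoint k) ∈ C := by rw [Scheme.Hom.comp_apply]; exact he
  have hξ := hZ.1.isGenericPoint_genericPoint (isClosed_of_mem_irreducibleComponents C hZ)
  set ξ := hZ.1.genericPoint
  have hmax : ∀ y : G.R, y ⤳ ξ → y ∈ C := fun y hy =>
    hZ.2 isIrreducible_singleton.closure (fun z hz => (hy.trans (hξ.specializes hz)).mem_closure) (subset_closure rfl)
  have hgen : ∀ a, p a ∈ C → ∃ m, m ⤳ a ∧ p m = ξ ∧ m ⤳ e (IsLocalRing.closedPoint L) := by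
    intro a ha
    obtain ⟨m, hma, hpm⟩ := gen (hξ.specializes ha)
    refine ⟨m, hma, hpm, ?_⟩
    have hsub : C ⊆ p '' closure {m} := by
      rw [← hξ.def]
      exact closure_minimal (Set.singleton_subset_iff.2 ⟨m, subset_closure rfl, hpm⟩) (p.isClosedMap _ isClosed_closure)
    obtain ⟨z, hz, hpz⟩ := hsub heC
    rw [← hfib z hpz]
    exact specializes_iff_mem_closure.2 hz
  have hirr : IsIrreducible (p ⁻¹' C) := by
    refine ⟨?_, ?_⟩
    · exact ⟨e (IsLocalRing.closedPoint L), by
        rw [Set.mem_preimage, ← Scheme.Hom.comp_apply, show e ≫ p = f ≫ ε from pullback.lift_fst _ _ _,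
          Scheme.Hom.comp_apply, Subsingleton.elim (α := PrimeSpectrum k) (f _) (IsLocalRing.closedPoint k)]
        exact heC⟩
    · rintro V W hV hW ⟨a, ha, haV⟩ ⟨b, hb, hbW⟩
      obtain ⟨m, hma, hpm, hme⟩ := hgen a ha
      obtain ⟨n, hnb, hpn, hne⟩ := hgen b hb
      obtain ⟨d, hdm, hdn⟩ := exists_generalization_pullback G eU f e
        (by simp [e, ε]) (pullback.lift_snd _ _ _) m n hme hne
      refine ⟨d, hmax _ (hpm ▸ hdm.map p.continuous), ?_, ?_⟩
      · exact (hdm.trans hma).mem_open hV haV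
      · exact (hdn.trans hnb).mem_open hW hbW
  let c : pullback (incl ≫ G.s ≫ eU.hom) f ⟶ pullback (G.s ≫ eU.hom) f :=
    pullback.map _ _ _ _ incl (𝟙 _) (𝟙 _) (by simp) (by simp)
  have hc : Set.range c = p ⁻¹' C := by
    rw [Scheme.Pullback.range_map]
    simp [p, C]
  haveI : IsClosedImmersion c :=
    MorphismProperty.pullbackMap (P := @IsClosedImmersion) (by infer_instance) (by infer_instance)
      rfl (Category.id_comp f).symm
  haveI : IrreducibleSpace ↥(pullback (incl ≫ G.s ≫ eU.hom) f) := by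
    have h1 : IrreducibleSpace ↥(Set.range c) := by rw [hc]; exact Subtype.irreducibleSpace hirr
    exact c.isClosedEmbedding.isEmbedding.toHomeomorph.irreducibleSpace_iff.2 h1
  have h := GrpSch.Irred.geometricallyIrreducible_of_isAlgClosed (pullback.snd (incl ≫ G.s ≫ eU.hom) f)
  rw [GeometricallyIrreducible.eq_geometrically] at h ⊢
  exact FlatMorLib.geometrically_of_isPullback_of_surjective
    (fun p _ _ h ↦ @Function.Surjective.irreducibleSpace _ _ _ _ _ p.continuous p.surjective h)
    (IsPullback.of_hasPullback _ _) h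

include eU in
theorem geometricallyIrreducible_component {Z : Scheme.{u}} (incl : Z ⟶ G.R) [IsClosedImmersion incl]
    (hZ : Set.range incl ∈ irreducibleComponents G.R)
    (he : G.e (eU.inv (IsLocalRing.closedPoint k)) ∈ Set.range incl) :
    GeometricallyIrreducible (incl ≫ G.s ≫ eU.hom) ∧ GeometricallyIrreducible (incl ≫ G.t ≫ eU.hom) := by
  refine ⟨geometricallyIrreducible_component_s G eU incl hZ he, ?_⟩
  set ε := G.e (eU.inv (IsLocalRing.closedPoint k)) with hε
  have hei : G.e ≫ G.i = G.e := by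
    have := mulPt_inv_right G G.e
    refine Eq.trans ?_ (this.trans (by rw [G.e_t, Category.id_comp]))
    refine (mulPt_unit_left G (G.e ≫ G.i)).symm.trans (mulPt_congr G _ ?_ rfl)
    rw [Category.assoc G.e, G.i_t, G.e_s, Category.id_comp]
  have hfix : G.i ε = ε := by rw [hε, ← Scheme.Hom.comp_apply, hei]
  have hr : Set.range (incl ≫ G.i) = G.i '' Set.range incl := by
    rw [← Set.range_comp]; rfl
  have hZ' : Set.range (incl ≫ G.i) ∈ irreducibleComponents G.R := by
    let φ := Scheme.homeoOfIso (asIso G.i)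
    refine ⟨hr ▸ hZ.1.image _ G.i.continuous.continuousOn, fun T hT hle => ?_⟩
    have h1 := hZ.2 (hT.image φ.symm φ.symm.continuous.continuousOn) (fun z hz => ⟨φ z, hle (hr.symm ▸ ⟨z, hz, rfl⟩), φ.symm_apply_apply z⟩)
    intro z hz
    rw [hr]
    exact ⟨φ.symm z, h1 ⟨z, hz, rfl⟩, φ.apply_symm_apply z⟩
  have := geometricallyIrreducible_component_s G eU (incl ≫ G.i) hZ' (by rw [hr]; exact ⟨ε, he, hfix⟩)
  simpa [reassoc_of% G.i_s] using this

end Groth.Agent.GrpdSep
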