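import Groth.Agent.GrpdSep.MaxOpen

/-!
Restriction of a groupoid scheme along a morphism to its objects.
-/

set_option autoImplicit false
set_option linter.style.haveILetI false
set_option backward.isDefEq.respectTransparency false

universe u

open CategoryTheory CategoryTheory.Limits AlgebraicGeometry Grpd

namespace Groth.Agent.GrpdSep

variable {S : Scheme.{u}} (G : GroupoidScheme S)

theorem mulPt_assoc {T : Scheme.{u}} {α β γ : T ⟶ G.R} (h₁ : α ≫ G.s = β ≫ G.t) (h₂ : β ≫ G.s = γ ≫ G.t) :
    mulPt G (mulPt G α β h₁) γ (by rw [mulPt_s, h₂]) = mulPt G α (mulPt G β γ h₂) (by rw [mulPt_t, h₁]) := by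
  simp only [mulPt_def]; exact G.assoc α β γ h₁ h₂

theorem mulPt_unit_right {T : Scheme.{u}} (α : T ⟶ G.R) :
    mulPt G α ((α ≫ G.s) ≫ G.e) (by simp [G.e_t]) = α := by
  rw [mulPt_def]
  conv_rhs => rw [← G.comp_e α]
  congr 1

theorem mulPt_unit_left {T : Scheme.{u}} (α : T ⟶ G.R) :
    mulPt G ((α ≫ G.t) ≫ G.e) α (by simp [G.e_s]) = α := by
  rw [mulPt_def]
  conv_rhs => rw [← G.e_comp α]
  congr 1

theorem mulPt_inv_right {T : Scheme.{u}} (α : T ⟶ G.R) :
    mulPt G α (α ≫ G.i) (by rw [Category.assoc, G.i_t]) = (α ≫ G.t) ≫ G.e := by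
  rw [mulPt_def, G.comp_i, Category.assoc]

theorem mulPt_inv_left {T : Scheme.{u}} (α : T ⟶ G.R) :
    mulPt G (α ≫ G.i) α (by rw [Category.assoc, G.i_s]) = (α ≫ G.s) ≫ G.e := by
  rw [mulPt_def, G.i_comp, Category.assoc]

variable {U' : Scheme.{u}} (g : U' ⟶ G.U)

/-- Arrows of the restriction. -/
noncomputable abbrev resR : Scheme.{u} := pullback (pullback.snd g G.t ≫ G.s) g

/-- The target of a restricted arrow. -/
noncomputable abbrev resT : resR G g ⟶ U' := pullback.fst (pullback.snd g G.t ≫ G.s) g ≫ pullback.fst g G.t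

/-- The underlying arrow. -/
noncomputable abbrev resArr : resR G g ⟶ G.R := pullback.fst (pullback.snd g G.t ≫ G.s) g ≫ pullback.snd g G.t

/-- The source of a restricted arrow. -/
noncomputable abbrev resS : resR G g ⟶ U' := pullback.snd (pullback.snd g G.t ≫ G.s) g

theorem resArr_t : resArr G g ≫ G.t = resT G g ≫ g := by
  rw [Category.assoc, ← pullback.condition (f := g) (g := G.t), Category.assoc]

theorem resArr_s : resArr G g ≫ G.s = resS G g ≫ g := by
  rw [Category.assoc]; exact pullback.condition

theorem res_ext {T : Scheme.{u}} {x y : T ⟶ resR G g} (h₁ : x ≫ resT G g = y ≫ resT G g)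
    (h₂ : x ≫ resArr G g = y ≫ resArr G g) (h₃ : x ≫ resS G g = y ≫ resS G g) : x = y := by
  refine pullback.hom_ext (pullback.hom_ext ?_ ?_) h₃
  · simpa [resT] using h₁
  · simpa [resArr] using h₂

/-- Constructor for points of the restriction. -/
noncomputable def resMk {T : Scheme.{u}} (a : T ⟶ U') (r : T ⟶ G.R) (b : T ⟶ U') (ht : a ≫ g = r ≫ G.t)
    (hs : r ≫ G.s = b ≫ g) : T ⟶ resR G g :=
  pullback.lift (pullback.lift a r ht) b (by rw [← Category.assoc, pullback.lift_snd, hs])

section resMk

variable {T : Scheme.{u}} (a : T ⟶ U') (r : T ⟶ G.R) (b : T ⟶ U') (ht : a ≫ g = r ≫ G.t) (hs : r ≫ G.s = b ≫ g)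

@[simp] theorem resMk_t : resMk G g a r b ht hs ≫ resT G g = a := by simp [resMk, resT]
@[simp] theorem resMk_arr : resMk G g a r b ht hs ≫ resArr G g = r := by simp [resMk, resArr]
@[simp] theorem resMk_s : resMk G g a r b ht hs ≫ resS G g = b := by simp [resMk, resS]

end resMk

/-- Composition in the restriction. -/
noncomputable def resComp : pullback (resS G g) (resT G g) ⟶ resR G g :=
  resMk G g (pullback.fst (resS G g) (resT G g) ≫ resT G g)
    (mulPt G (pullback.fst (resS G g) (resT G g) ≫ resArr G g) (pullback.snd (resS G g) (resT G g) ≫ resArr G g)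
      (by rw [Category.assoc, resArr_s, Category.assoc, resArr_t, ← Category.assoc, pullback.condition, Category.assoc]))
    (pullback.snd (resS G g) (resT G g) ≫ resS G g)
    (by rw [mulPt_t, Category.assoc, Category.assoc _ (resArr G g), resArr_t])
    (by rw [mulPt_s, Category.assoc, resArr_s, Category.assoc])

theorem lift_resComp {T : Scheme.{u}} (α β : T ⟶ resR G g) (h : α ≫ resS G g = β ≫ resT G g) :
    pullback.lift α β h ≫ resComp G g = resMk G g (α ≫ resT G g)
      (mulPt G (α ≫ resArr G g) (β ≫ resArr G g)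
        (by rw [Category.assoc, resArr_s, Category.assoc, resArr_t, ← Category.assoc, h, Category.assoc]))
      (β ≫ resS G g) (by rw [mulPt_t, Category.assoc, Category.assoc α (resArr G g), resArr_t])
      (by rw [mulPt_s, Category.assoc, resArr_s, Category.assoc]) := by
  apply res_ext
  · rw [Category.assoc, resComp, resMk_t, resMk_t, pullback.lift_fst_assoc]
  · rw [Category.assoc, resComp, resMk_arr, resMk_arr, mulPt_comp]
    exact mulPt_congr G _ (pullback.lift_fst_assoc _ _ _ _) (pullback.lift_snd_assoc _ _ _ _)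
  · rw [Category.assoc, resComp, resMk_s, resMk_s, pullback.lift_snd_assoc]

/-- The restriction of a groupoid along `g`. -/
noncomputable def restrict : GroupoidScheme S where
  U := U'
  R := resR G g
  pU := g ≫ G.pU
  pR := resS G g ≫ g ≫ G.pU
  s := resS G g
  t := resT G g
  e := resMk G g (𝟙 U') (g ≫ G.e) (𝟙 U') (by simp [G.e_t]) (by simp [G.e_s])
  i := resMk G g (resS G g) (resArr G g ≫ G.i) (resT G g)
    (by rw [Category.assoc _ G.i, G.i_t, resArr_s]) (by rw [Category.assoc, G.i_s, resArr_t])
  c := resComp G g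
  s_over := rfl
  t_over := by
    rw [← Category.assoc (resT G g), ← resArr_t, ← Category.assoc (resS G g), ← resArr_s]
    simp only [Category.assoc, G.t_over, G.s_over]
  comp_s α β h := by rw [lift_resComp, resMk_s]
  comp_t α β h := by rw [lift_resComp, resMk_t]
  assoc {T} α β γ h₁ h₂ := by
    apply res_ext
    · simp only [lift_resComp, resMk_t]
    · simp only [lift_resComp, resMk_arr]
      exact mulPt_assoc G _ _
    · simp only [lift_resComp, resMk_s]
  e_s := resMk_s G g _ _ _ _ _
  e_t := resMk_t G g _ _ _ _ _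
  comp_e {T} α := by
    apply res_ext
    · simp only [lift_resComp, resMk_t]
    · simp only [lift_resComp, resMk_arr]
      refine (mulPt_congr G _ rfl ?_).trans (mulPt_unit_right G (α ≫ resArr G g))
      rw [Category.assoc, Category.assoc, resMk_arr, Category.assoc α, resArr_s]
      simp
    · simp only [lift_resComp, resMk_s, Category.assoc, Category.comp_id]
  e_comp {T} α := by
    apply res_ext
    · simp only [lift_resComp, resMk_t, Category.assoc, Category.comp_id]
    · simp only [lift_resComp, resMk_arr]
      refine (mulPt_congr G _ ?_ rfl).trans (mulPt_unit_left G (α ≫ resArr G g))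
      rw [Category.assoc, Category.assoc, resMk_arr, Category.assoc α, resArr_t]
      simp
    · simp only [lift_resComp, resMk_s]
  i_s := resMk_s G g _ _ _ _ _
  i_t := resMk_t G g _ _ _ _ _
  comp_i {T} α := by
    apply res_ext
    · simp only [lift_resComp, resMk_t, Category.assoc, Category.comp_id]
    · simp only [lift_resComp, resMk_arr, Category.assoc]
      refine (mulPt_congr G _ rfl (Category.assoc _ _ _).symm).trans ((mulPt_inv_right G (α ≫ resArr G g)).trans ?_)
      rw [Category.assoc α, resArr_t]
      simp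
    · simp only [lift_resComp, resMk_s, Category.assoc, Category.comp_id]
  i_comp {T} α := by
    apply res_ext
    · simp only [lift_resComp, resMk_t, Category.assoc, Category.comp_id]
    · simp only [lift_resComp, resMk_arr, Category.assoc]
      refine (mulPt_congr G _ (Category.assoc _ _ _).symm rfl).trans ((mulPt_inv_left G (α ≫ resArr G g)).trans ?_)
      rw [Category.assoc α, resArr_s]
      simp
    · simp only [lift_resComp, resMk_s, Category.assoc, Category.comp_id]

end Groth.Agent.GrpdSep
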