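import Groth.Agent.GrpdSep.MaxOpen
import Groth.Agent.LimSch.ClosureRange
import Mathlib.AlgebraicGeometry.Morphisms.Flat
import Mathlib.AlgebraicGeometry.IdealSheaf.Subscheme
import Mathlib.AlgebraicGeometry.PullbackCarrier

/-!
Saturations of quasi-compact opens under flat quasi-compact groupoids.
-/

set_option autoImplicit false
set_option linter.style.haveILetI false
set_option backward.isDefEq.respectTransparency false

universe u

open CategoryTheory CategoryTheory.Limits AlgebraicGeometry Grpd TopologicalSpace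

namespace Groth.Agent.GrpdSep

variable {S : Scheme.{u}} (G : GroupoidScheme S)

theorem t_i (x : G.R) : G.t (G.i x) = G.s x := by rw [← Scheme.Hom.comp_apply, G.i_t]

theorem s_i (x : G.R) : G.s (G.i x) = G.t x := by rw [← Scheme.Hom.comp_apply, G.i_s]

/-- The saturation of a set. -/
def sat (W : Set G.U) : Set G.U := G.t '' (G.s ⁻¹' W)

theorem mem_sat_self {W : Set G.U} {u : G.U} (hu : u ∈ W) : u ∈ sat G W :=
  ⟨G.e u, show G.s (G.e u) ∈ W by rw [← Scheme.Hom.comp_apply, G.e_s]; exact hu,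
    by rw [← Scheme.Hom.comp_apply, G.e_t]; rfl⟩

theorem target_mem_sat {W : Set G.U} {r : G.R} (h : G.s r ∈ sat G W) : G.t r ∈ sat G W := by
  obtain ⟨r', hW, h⟩ := h
  obtain ⟨p, hp₁, hp₂⟩ := Scheme.Pullback.exists_preimage_pullback (f := G.s) (g := G.t) r r' h.symm
  have hid : pullback.lift (pullback.fst G.s G.t) (pullback.snd G.s G.t) pullback.condition = 𝟙 _ := by
    apply pullback.hom_ext <;> simp
  have hs := G.comp_s (pullback.fst G.s G.t) (pullback.snd G.s G.t) pullback.condition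
  have ht := G.comp_t (pullback.fst G.s G.t) (pullback.snd G.s G.t) pullback.condition
  rw [hid, Category.id_comp] at hs ht
  refine ⟨G.c p, ?_, ?_⟩
  · show G.s (G.c p) ∈ W
    rw [← Scheme.Hom.comp_apply, hs, Scheme.Hom.comp_apply, hp₂]; exact hW
  · rw [← Scheme.Hom.comp_apply, ht, Scheme.Hom.comp_apply, hp₁]

theorem mem_sat_iff {W : Set G.U} (r : G.R) : G.s r ∈ sat G W ↔ G.t r ∈ sat G W := by
  refine ⟨target_mem_sat G, fun h => ?_⟩
  have := target_mem_sat G (r := G.i r) (by rwa [s_i])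
  rwa [t_i] at this

variable [QuasiCompact G.s] [Flat G.s] [QuasiCompact G.t] [Flat G.t]

theorem stableUnderGeneralization_sat (W : G.U.Opens) : StableUnderGeneralization (sat G W) :=
  (W.2.preimage G.s.continuous).stableUnderGeneralization.image (Flat.generalizingMap G.t)

theorem isCompact_sat (W : G.U.Opens) (hW : IsCompact (W : Set G.U)) : IsCompact (sat G W) :=
  (G.s.isCompact_preimage hW).image G.t.continuous

theorem exists_isCompact_open_superset {X : Scheme.{u}} {E : Set X} (hE : IsCompact E) (O : X.Opens) (hO : E ⊆ O) :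
    ∃ V : X.Opens, IsCompact (V : Set X) ∧ E ⊆ V ∧ V ≤ O := by
  choose V hV hxV hVO using fun x : E => X.isBasis_affineOpens.exists_subset_of_mem_open (hO x.2) O.2
  choose V' hV' hVV' using hV
  obtain ⟨t, ht⟩ := hE.elim_finite_subcover (fun x : E => (V' x : Set X)) (fun x => (V' x).2)
    (fun x hx => Set.mem_iUnion.2 ⟨⟨x, hx⟩, by rw [hVV']; exact hxV ⟨x, hx⟩⟩)
  refine ⟨⟨⋃ x ∈ t, (V' x : Set X), isOpen_biUnion fun x _ => (V' x).2⟩,
    t.finite_toSet.isCompact_biUnion fun x _ => (hV' x).isCompact, ht, ?_⟩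
  exact Set.iUnion₂_subset fun x _ => by rw [hVV']; exact hVO x

theorem exists_sInter (W : G.U.Opens) (hW : IsCompact (W : Set G.U)) :
    ∃ (ι : Type u) (_ : Nonempty ι) (V : ι → G.U.Opens),
      (∀ i, IsCompact (V i : Set G.U)) ∧ sat G W = ⋂ i, (V i : Set G.U) := by
  let ι := {V : G.U.Opens // IsCompact (V : Set G.U) ∧ sat G W ⊆ V}
  obtain ⟨V₀, h₀, h₀', -⟩ := exists_isCompact_open_superset (isCompact_sat G W hW) ⊤ (fun _ _ => trivial)
  refine ⟨ι, ⟨⟨V₀, h₀, h₀'⟩⟩, fun V => V.1, fun V => V.2.1, Set.Subset.antisymm (Set.subset_iInter fun V => V.2.2) ?_⟩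
  intro y hy
  by_contra hyE
  obtain ⟨V, hV, hEV, hVO⟩ := exists_isCompact_open_superset (isCompact_sat G W hW)
    ⟨(closure {y})ᶜ, isClosed_closure.isOpen_compl⟩ (fun x hx hxy => hyE
      (stableUnderGeneralization_sat G W (specializes_iff_mem_closure.2 hxy) hx))
  exact hVO (Set.mem_iInter.1 hy ⟨V, hV, hEV⟩) (subset_closure rfl)

theorem exists_invariant_open_between (W : G.U.Opens) (hW : IsCompact (W : Set G.U)) :
    ∃ V W' : G.U.Opens, G.s ⁻¹ᵁ V = G.t ⁻¹ᵁ V ∧ IsCompact (W' : Set G.U) ∧ W ≤ V ∧ V ≤ W' := by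
  obtain ⟨W', hW', hEW', -⟩ := exists_isCompact_open_superset (isCompact_sat G W hW) ⊤ (fun _ _ => trivial)
  let Z : Set G.U := (W' : Set G.U)ᶜ
  let I := Scheme.IdealSheafData.vanishingIdeal ⟨Z, W'.2.isClosed_compl⟩
  have hI : Set.range I.subschemeι = Z := by
    rw [Scheme.IdealSheafData.range_subschemeι, Scheme.IdealSheafData.coe_support_vanishingIdeal]; rfl
  let q := pullback.fst G.s I.subschemeι ≫ G.t
  have hq : Set.range q = sat G Z := by
    rw [Scheme.Hom.comp_base, TopCat.coe_comp, Set.range_comp, Scheme.Pullback.range_fst, hI]; rfl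
  let F : Set G.U := closure (sat G Z)
  have hF : ∀ r, G.s r ∈ F → G.t r ∈ F := by
    intro r hr
    obtain ⟨x, hx⟩ := LimSch.exists_specializes_of_mem_closure_range q (y := G.s r) (by rw [hq]; exact hr)
    obtain ⟨r₀, hr₀, hs₀⟩ := Flat.generalizingMap G.s hx
    have hx' : q x ∈ sat G Z := hq ▸ Set.mem_range_self x
    rw [← hs₀] at hx'
    exact (hr₀.map G.t.continuous).mem_closed isClosed_closure (subset_closure (target_mem_sat G hx'))
  refine ⟨⟨Fᶜ, isClosed_closure.isOpen_compl⟩, W', preimage_eq_of_le G _ fun r hr h => hr (hF r h), hW', ?_, ?_⟩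
  · intro y hyW hyF
    obtain ⟨x, hx⟩ := LimSch.exists_specializes_of_mem_closure_range q (y := y) (by rw [hq]; exact hyF)
    obtain ⟨r, hrZ, hr⟩ : q x ∈ sat G Z := hq ▸ Set.mem_range_self x
    have h2 : G.t r ∈ sat G W := mem_sat_self G (by rw [hr]; exact hx.mem_open W.2 hyW)
    exact hrZ (hEW' ((mem_sat_iff G r).2 h2))
  · intro y hy
    by_contra h
    exact hy (subset_closure (mem_sat_self G h))

end Groth.Agent.GrpdSep
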