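import Groth.Agent.GrpdSep.MaxOpen
import Mathlib.AlgebraicGeometry.PullbackCarrier
import Mathlib.AlgebraicGeometry.ResidueField
import Mathlib.AlgebraicGeometry.Morphisms.ClosedImmersion
import Mathlib.AlgebraicGeometry.Morphisms.Immersion
import Mathlib.Topology.LocallyClosed

/-!
Topology of groupoid schemes over a field.
-/

set_option autoImplicit false
set_option linter.style.haveILetI false
set_option backward.isDefEq.respectTransparency false

universe u

open CategoryTheory CategoryTheory.Limits AlgebraicGeometry Grpd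

namespace Groth.Agent.GrpdSep

section base

variable {S : Scheme.{u}} {G : GroupoidScheme S} {k : Type u} [Field k] (eU : G.U ≅ Spec (CommRingCat.of k))

include eU in
theorem subsingleton_U : Subsingleton G.U := ⟨fun x y =>
  eU.hom.homeomorph.injective (Subsingleton.elim (α := PrimeSpectrum k) _ _)⟩

include eU in
theorem isIntegral_U : IsIntegral G.U :=
  haveI : Nonempty G.U := ⟨eU.inv (IsLocalRing.closedPoint k)⟩
  isIntegral_of_isOpenImmersion eU.hom

include eU in
theorem isAffine_U : IsAffine G.U := .of_isIso eU.hom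

include eU in
theorem universallyOpen {X : Scheme.{u}} (f : X ⟶ G.U) : UniversallyOpen f :=
  haveI := subsingleton_U eU
  haveI := isIntegral_U eU
  inferInstance

include eU in
theorem isClosedImmersion_section {X : Scheme.{u}} (g : X ⟶ G.U) (σ : G.U ⟶ X) (h : σ ≫ g = 𝟙 _) :
    IsClosedImmersion σ := by
  haveI := subsingleton_U eU
  haveI := isAffine_U eU
  refine (IsZariskiLocalAtTarget.iff_of_iSup_eq_top (P := @IsClosedImmersion) _ (iSup_affineOpens_eq_top X)).2 fun V => ?_
  haveI : IsAffine V.1.toScheme := V.2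
  haveI : IsClosedImmersion ((σ ∣_ V.1) ≫ V.1.ι ≫ g) := by
    rw [← Category.assoc, morphismRestrict_ι, Category.assoc, h, Category.comp_id]
    exact IsClosedImmersion.iff_isPreimmersion.2 ⟨inferInstance, isClosed_discrete _⟩
  exact IsClosedImmersion.of_comp (σ ∣_ V.1) (V.1.ι ≫ g)

include eU in
theorem isClosedImmersion_eStab : IsClosedImmersion G.eStab :=
  isClosedImmersion_section eU G.stabilizerToU G.eStab (eStab_toU G)

include eU in
theorem isSeparated_R : G.R.IsSeparated := by
  haveI := isClosedImmersion_eStab eU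
  haveI : IsSeparated G.j := ⟨MorphismProperty.of_isPullback (isPullback_diagonal G) inferInstance⟩
  haveI := isAffine_U eU
  haveI : IsSeparated (G.pU ≫ terminal.from S) := by rw [terminal.comp_from]; infer_instance
  haveI : IsSeparated G.pU := IsSeparated.of_comp G.pU (terminal.from S)
  haveI : IsSeparated (G.j ≫ pullback.fst G.pU G.pU ≫ terminal.from G.U) := inferInstance
  refine ⟨?_⟩
  have : G.j ≫ pullback.fst G.pU G.pU ≫ terminal.from G.U = terminal.from G.R := terminal.hom_ext _ _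
  rw [← this]; infer_instance

theorem isPullback_c : IsPullback G.c (pullback.snd G.s G.t) G.s G.s :=
  IsPullback.of_iso (IsPullback.of_hasPullback G.s G.s) (shearST G).symm (Iso.refl _) (Iso.refl _) (Iso.refl _)
    (by rw [Iso.refl_hom, Category.comp_id, Iso.symm_hom, Iso.eq_inv_comp]; exact pullback.lift_fst _ _ _)
    (by rw [Iso.refl_hom, Category.comp_id, Iso.symm_hom, Iso.eq_inv_comp]; exact pullback.lift_snd _ _ _)
    (by simp) (by simp)

include eU in
theorem universallyOpen_c : UniversallyOpen G.c :=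
  haveI := universallyOpen eU G.s
  MorphismProperty.of_isPullback (P := @UniversallyOpen) isPullback_c.flip inferInstance

include eU in
theorem isOpen_image_fibre {X Y : Scheme.{u}} (f : X ⟶ G.U) (g : Y ⟶ G.U) (y : Y)
    {N : Set ↥(pullback f g)} (hN : IsOpen N) : IsOpen (pullback.fst f g '' (N ∩ pullback.snd f g ⁻¹' {y})) := by
  let m := pullback.map f (Y.fromSpecResidueField y ≫ g) f g (𝟙 X) (Y.fromSpecResidueField y) (𝟙 _)
    (by simp) (by simp)
  have hr : Set.range m = pullback.snd f g ⁻¹' {y} := by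
    rw [Scheme.Pullback.range_map, Scheme.range_fromSpecResidueField]
    simp
  have hm : m ≫ pullback.fst f g = pullback.fst f (Y.fromSpecResidueField y ≫ g) := by simp [m]
  haveI := universallyOpen eU (Y.fromSpecResidueField y ≫ g)
  rw [← hr, Set.inter_comm, ← Set.image_preimage_eq_range_inter, ← Set.image_comp,
    ← TopCat.coe_comp, ← Scheme.Hom.comp_base, hm]
  exact (pullback.fst f (Y.fromSpecResidueField y ≫ g)).isOpenMap _ (hN.preimage m.continuous)

include eU in
theorem isOpen_image_fibre' {X Y : Scheme.{u}} (f : X ⟶ G.U) (g : Y ⟶ G.U) (x : X)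
    {N : Set ↥(pullback f g)} (hN : IsOpen N) : IsOpen (pullback.snd f g '' (N ∩ pullback.fst f g ⁻¹' {x})) := by
  let m := pullback.map (X.fromSpecResidueField x ≫ f) g f g (X.fromSpecResidueField x) (𝟙 Y) (𝟙 _)
    (by simp) (by simp)
  have hr : Set.range m = pullback.fst f g ⁻¹' {x} := by
    rw [Scheme.Pullback.range_map, Scheme.range_fromSpecResidueField]
    simp
  have hm : m ≫ pullback.snd f g = pullback.snd (X.fromSpecResidueField x ≫ f) g := by simp [m]
  haveI := universallyOpen eU (X.fromSpecResidueField x ≫ f)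
  rw [← hr, Set.inter_comm, ← Set.image_preimage_eq_range_inter, ← Set.image_comp,
    ← TopCat.coe_comp, ← Scheme.Hom.comp_base, hm]
  exact (pullback.snd (X.fromSpecResidueField x ≫ f) g).isOpenMap _ (hN.preimage m.continuous)

theorem isPullback_c_left : IsPullback (pullback.fst G.s G.t) G.c G.t G.t := by
  have hid : pullback.lift (pullback.fst G.s G.t) (pullback.snd G.s G.t) pullback.condition = 𝟙 _ := by
    apply pullback.hom_ext <;> simp
  have hc : mulPt G (pullback.fst G.s G.t) (pullback.snd G.s G.t) pullback.condition = G.c := by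
    rw [mulPt_def, hid, Category.id_comp]
  have w : pullback.fst G.s G.t ≫ G.t = G.c ≫ G.t := by rw [← hc, mulPt_t]
  refine IsPullback.of_isLimit (c := PullbackCone.mk (pullback.fst G.s G.t) G.c w)
    (PullbackCone.isLimitAux' _ fun z => ?_)
  have hz : (z.fst ≫ G.i) ≫ G.s = z.snd ≫ G.t := by rw [Category.assoc, G.i_s, z.condition]
  refine ⟨pullback.lift (f := G.s) (g := G.t) z.fst (mulPt G (z.fst ≫ G.i) z.snd hz) (by rw [mulPt_t, Category.assoc, G.i_t]),
    pullback.lift_fst _ _ _, ?_, ?_⟩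
  · have h1 := cancel_left G (β := z.fst) hz
    rw [mulPt_def] at h1
    exact h1
  · intro m hm1 hm2
    have hm1' : m ≫ pullback.fst G.s G.t = z.fst := hm1
    have hm2' : m ≫ G.c = z.snd := hm2
    have h0 : z.fst ≫ G.s = (m ≫ pullback.snd G.s G.t) ≫ G.t := by
      rw [← hm1', Category.assoc, Category.assoc, pullback.condition]
    have h1 : mulPt G z.fst (m ≫ pullback.snd G.s G.t) h0 = z.snd := by
      rw [mulPt_def, ← hm2']
      congr 1
      apply pullback.hom_ext <;> simp [hm1']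
    refine pullback.hom_ext (f := G.s) (g := G.t) ?_ ?_
    · exact hm1'.trans (pullback.lift_fst _ _ _).symm
    · exact ((cancel_left' G h0).symm.trans (mulPt_congr G _ rfl h1)).trans (pullback.lift_snd _ _ _).symm

/-- The translation map of a family of arrows. -/
noncomputable def translate {Z : Scheme.{u}} (a : Z ⟶ G.R) : pullback (a ≫ G.s) G.t ⟶ G.R :=
  pullback.lift (pullback.fst _ _ ≫ a) (pullback.snd _ _) (by rw [Category.assoc]; exact pullback.condition) ≫ G.c

theorem isPullback_translate {Z : Scheme.{u}} (a : Z ⟶ G.R) :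
    IsPullback (pullback.fst (a ≫ G.s) G.t) (translate a) (a ≫ G.t) G.t := by
  have h0 : IsPullback (pullback.fst (a ≫ G.s) G.t)
      (pullback.lift (pullback.fst _ _ ≫ a) (pullback.snd _ _) (by rw [Category.assoc]; exact pullback.condition))
      a (pullback.fst G.s G.t) :=
    (IsPullback.of_right (by rw [pullback.lift_snd]; exact (IsPullback.of_hasPullback (a ≫ G.s) G.t).flip)
      (pullback.lift_fst _ _ _) (IsPullback.of_hasPullback G.s G.t).flip).flip
  exact h0.paste_vert isPullback_c_left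

include eU in
theorem exists_auto (r : G.R) (hs : IsIso (G.s.residueFieldMap r)) (ht : IsIso (G.t.residueFieldMap r)) :
    ∃ φ : G.R ≅ G.R, φ.hom (G.e (eU.inv (IsLocalRing.closedPoint k))) = r := by
  haveI := subsingleton_U eU
  haveI := isIntegral_U eU
  have hiso : ∀ v : G.U, IsIso (G.U.fromSpecResidueField v) := fun v => by
    haveI : IsClosedImmersion (G.U.fromSpecResidueField v) :=
      IsClosedImmersion.iff_isPreimmersion.2 ⟨inferInstance, isClosed_discrete _⟩
    haveI : Surjective (G.U.fromSpecResidueField v) := ⟨fun w => ⟨IsLocalRing.closedPoint _, Subsingleton.elim _ _⟩⟩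
    exact isIso_of_isClosedImmersion_of_surjective _
  let ι := G.R.fromSpecResidueField r
  haveI : IsIso (ι ≫ G.s) := by
    haveI := hs; haveI := hiso (G.s r)
    rw [← Scheme.Hom.SpecMap_residueFieldMap_fromSpecResidueField]; infer_instance
  haveI : IsIso (ι ≫ G.t) := by
    haveI := ht; haveI := hiso (G.t r)
    rw [← Scheme.Hom.SpecMap_residueFieldMap_fromSpecResidueField]; infer_instance
  obtain ⟨ρ, hρ⟩ : ∃ ρ, ρ = inv (ι ≫ G.s) ≫ ι := ⟨_, rfl⟩
  have hρs : ρ ≫ G.s = 𝟙 _ := by rw [hρ, Category.assoc, IsIso.inv_hom_id]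
  haveI : IsIso (ρ ≫ G.t) := by rw [hρ, Category.assoc]; infer_instance
  let φ := mulPt G (G.t ≫ ρ) (𝟙 G.R) (by rw [Category.assoc, hρs, Category.comp_id, Category.id_comp])
  let ψ := mulPt G ((G.t ≫ inv (ρ ≫ G.t) ≫ ρ) ≫ G.i) (𝟙 G.R) (by
    rw [Category.assoc, G.i_s, Category.assoc, Category.assoc, IsIso.inv_hom_id, Category.comp_id, Category.id_comp])
  refine ⟨⟨φ, ψ, ?_, ?_⟩, ?_⟩
  · simp only [ψ, mulPt_comp]
    refine (mulPt_congr G _ ?_ (Category.comp_id _)).trans (cancel_left' G (β := G.t ≫ ρ) (α := 𝟙 G.R)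
      (by rw [Category.assoc, hρs, Category.comp_id, Category.id_comp]))
    rw [← Category.assoc, ← Category.assoc φ, mulPt_t, Category.assoc G.t ρ G.t, Category.assoc G.t,
      IsIso.hom_inv_id_assoc]
  · simp only [φ, mulPt_comp]
    refine (mulPt_congr G _ ?_ (Category.comp_id _)).trans (cancel_left G (β := G.t ≫ inv (ρ ≫ G.t) ≫ ρ) (α := 𝟙 G.R)
      (by rw [Category.assoc, G.i_s, Category.assoc, Category.assoc, IsIso.inv_hom_id, Category.comp_id, Category.id_comp]))
    rw [← Category.assoc, mulPt_t, Category.assoc _ G.i, G.i_t]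
    simp only [Category.assoc, hρs, Category.comp_id]
  · have he : G.e ≫ φ = ρ := by
      simp only [φ, mulPt_comp]
      refine (mulPt_congr G _ (by rw [← Category.assoc, G.e_t, Category.id_comp]) (Category.comp_id _)).trans ?_
      rw [mulPt_def]
      conv_rhs => rw [← G.comp_e ρ]
      congr 1
      apply pullback.hom_ext
      · simp
      · simp [reassoc_of% hρs]
    change φ (G.e _) = r
    rw [← Scheme.Hom.comp_apply, he, hρ, Scheme.Hom.comp_apply]
    exact G.R.fromSpecResidueField_apply r _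

end base

section hom

variable {S : Scheme.{u}} {G₁ G₂ : GroupoidScheme S} (f : GroupoidScheme.Hom G₁ G₂)

theorem map_e : G₁.e ≫ f.fR = f.fU ≫ G₂.e := by
  have hs : (G₁.e ≫ f.fR) ≫ G₂.s = f.fU := by rw [Category.assoc, f.comm_s, ← Category.assoc, G₁.e_s, Category.id_comp]
  have ht : (G₁.e ≫ f.fR) ≫ G₂.t = f.fU := by rw [Category.assoc, f.comm_t, ← Category.assoc, G₁.e_t, Category.id_comp]
  have hxx : mulPt G₂ (G₁.e ≫ f.fR) (G₁.e ≫ f.fR) (hs.trans ht.symm) = G₁.e ≫ f.fR := by
    have h := f.comm_c G₁.e G₁.e (G₁.e_s.trans G₁.e_t.symm)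
    rw [mulPt_def]
    refine h.symm.trans (congrArg (· ≫ f.fR) ?_)
    conv_rhs => rw [← G₁.comp_e G₁.e]
    congr 1
    apply pullback.hom_ext
    · simp
    · simp [reassoc_of% G₁.e_s]
  have h2 := cancel_left' G₂ (β := G₁.e ≫ f.fR) (α := G₁.e ≫ f.fR) (hs.trans ht.symm)
  rw [mulPt_congr G₂ _ rfl hxx, mulPt_def, G₂.i_comp, ← Category.assoc (G₁.e ≫ f.fR), hs] at h2
  exact h2.symm

theorem map_i : G₁.i ≫ f.fR = f.fR ≫ G₂.i := by
  have h0 : (G₁.i ≫ f.fR) ≫ G₂.s = f.fR ≫ G₂.t := by
    rw [Category.assoc, f.comm_s, f.comm_t, ← Category.assoc, G₁.i_s]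
  have hm : mulPt G₂ (G₁.i ≫ f.fR) f.fR h0 = (f.fR ≫ G₂.s) ≫ G₂.e := by
    have h := f.comm_c G₁.i (𝟙 _) (by rw [G₁.i_s, Category.id_comp])
    rw [mulPt_def, f.comm_s, Category.assoc, ← map_e f, ← Category.assoc]
    refine Eq.trans ?_ (congrArg (· ≫ f.fR) ((G₁.i_comp (𝟙 _)).trans (Category.id_comp _)))
    refine Eq.trans ?_ (Eq.trans h.symm ?_)
    · rfl
    · rfl
  have h2 := cancel_right G₂ h0
  rw [mulPt_congr G₂ _ hm rfl] at h2
  refine h2.symm.trans ?_
  rw [mulPt_def]
  conv_rhs => rw [← G₂.e_comp (f.fR ≫ G₂.i)]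
  congr 1
  apply pullback.hom_ext
  all_goals simp [reassoc_of% G₂.i_t]

theorem comp_mem_range [Mono f.fU] (p : ↥(pullback G₂.s G₂.t)) (h₁ : pullback.fst G₂.s G₂.t p ∈ Set.range f.fR)
    (h₂ : pullback.snd G₂.s G₂.t p ∈ Set.range f.fR) : G₂.c p ∈ Set.range f.fR := by
  let m := pullback.map G₁.s G₁.t G₂.s G₂.t f.fR f.fR f.fU f.comm_s.symm f.comm_t.symm
  have hp : p ∈ Set.range m := by
    rw [Scheme.Pullback.range_map]; exact ⟨h₁, h₂⟩
  obtain ⟨q, rfl⟩ := hp
  have hc : m ≫ G₂.c = G₁.c ≫ f.fR := by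
    have h := f.comm_c (pullback.fst G₁.s G₁.t) (pullback.snd G₁.s G₁.t) pullback.condition
    rw [show pullback.lift (pullback.fst G₁.s G₁.t) (pullback.snd G₁.s G₁.t) pullback.condition = 𝟙 _ by
      apply pullback.hom_ext <;> simp, Category.id_comp] at h
    rw [h]
  exact ⟨G₁.c q, by rw [← Scheme.Hom.comp_apply, ← hc, Scheme.Hom.comp_apply]⟩

variable {k : Type u} [Field k] (eU : G₂.U ≅ Spec (CommRingCat.of k))

include eU in
theorem comp_mem_closure [Mono f.fU] (p : ↥(pullback G₂.s G₂.t))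
    (h₁ : pullback.fst G₂.s G₂.t p ∈ closure (Set.range f.fR))
    (h₂ : pullback.snd G₂.s G₂.t p ∈ closure (Set.range f.fR)) : G₂.c p ∈ closure (Set.range f.fR) := by
  refine mem_closure_iff.2 fun O hO hpO => ?_
  let N := G₂.c ⁻¹' O
  have hN : IsOpen N := hO.preimage G₂.c.continuous
  obtain ⟨h, ⟨q, ⟨hq, hqx⟩, rfl⟩, hh⟩ := mem_closure_iff.1 h₂ _ (isOpen_image_fibre' eU G₂.s G₂.t
    (pullback.fst G₂.s G₂.t p) hN) ⟨p, ⟨hpO, rfl⟩, rfl⟩
  obtain ⟨h', ⟨q', ⟨hq', hqy⟩, rfl⟩, hh'⟩ := mem_closure_iff.1 h₁ _ (isOpen_image_fibre eU G₂.s G₂.t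
    (pullback.snd G₂.s G₂.t q) hN) ⟨q, ⟨hq, rfl⟩, hqx⟩
  exact ⟨G₂.c q', hq', comp_mem_range f q' hh' ((show pullback.snd G₂.s G₂.t q' = _ from hqy) ▸ hh)⟩

theorem inv_mem_range {x : G₂.R} (hx : x ∈ Set.range f.fR) : G₂.i x ∈ Set.range f.fR := by
  obtain ⟨y, rfl⟩ := hx
  exact ⟨G₁.i y, by rw [← Scheme.Hom.comp_apply, map_i, Scheme.Hom.comp_apply]⟩

theorem inv_mem_closure {x : G₂.R} (hx : x ∈ closure (Set.range f.fR)) : G₂.i x ∈ closure (Set.range f.fR) :=
  map_mem_closure G₂.i.continuous hx fun _ hy => inv_mem_range f hy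

include eU in
theorem isClosed_range [IsIso f.fU] (hlc : IsLocallyClosed (Set.range f.fR)) : IsClosed (Set.range f.fR) := by
  obtain ⟨W, hW, hWH⟩ : ∃ W, IsOpen W ∧ W ∩ closure (Set.range f.fR) = Set.range f.fR :=
    ⟨_, isLocallyClosed_iff_isOpen_coborder.1 hlc, coborder_inter_closure⟩
  rw [← closure_subset_iff_isClosed]
  intro y hy
  let a := G₂.R.fromSpecResidueField y
  let q := pullback.snd (a ≫ G₂.s) G₂.t
  haveI := universallyOpen eU (a ≫ G₂.t)
  haveI : UniversallyOpen (translate a) := MorphismProperty.of_isPullback (isPullback_translate a) inferInstance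
  have ha : ∀ z, (pullback.fst (a ≫ G₂.s) G₂.t ≫ a) z = y := fun z => by
    rw [Scheme.Hom.comp_apply]; exact G₂.R.fromSpecResidueField_apply y _
  -- the translate of the open set
  have hyO : y ∈ translate a '' (q ⁻¹' W) := by
    let ε := pullback.lift (𝟙 _) (a ≫ G₂.s ≫ G₂.e) (by simp [G₂.e_t]) (f := a ≫ G₂.s) (g := G₂.t)
    refine ⟨ε (IsLocalRing.closedPoint _), ?_, ?_⟩
    · change q (ε (IsLocalRing.closedPoint _)) ∈ W
      rw [← Scheme.Hom.comp_apply, pullback.lift_snd]
      refine (hWH.symm.le ?_).1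
      rw [Scheme.Hom.comp_apply, Scheme.Hom.comp_apply]
      obtain ⟨v, hv⟩ := f.fU.homeomorph.surjective (G₂.s (a (IsLocalRing.closedPoint _)))
      refine ⟨G₁.e v, ?_⟩
      rw [← Scheme.Hom.comp_apply, map_e, Scheme.Hom.comp_apply]
      exact congrArg G₂.e hv
    · have h1 : ε ≫ translate a = a := by
        conv_rhs => rw [← G₂.comp_e a]
        rw [translate, ← Category.assoc]
        congr 1
        apply pullback.hom_ext <;> simp [ε] <;> exact Category.id_comp _
      rw [← Scheme.Hom.comp_apply, h1]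
      exact G₂.R.fromSpecResidueField_apply y _
  obtain ⟨h, ⟨z, hz, rfl⟩, hh⟩ := mem_closure_iff.1 hy _
    ((translate a).isOpenMap _ (hW.preimage q.continuous)) hyO
  have h0 : (pullback.fst (a ≫ G₂.s) G₂.t ≫ a) ≫ G₂.s = q ≫ G₂.t := by
    rw [Category.assoc]; exact pullback.condition
  -- the second component lies in the image
  have hqC : q z ∈ closure (Set.range f.fR) := by
    have h1 : ((pullback.fst (a ≫ G₂.s) G₂.t ≫ a) ≫ G₂.i) ≫ G₂.s = translate a ≫ G₂.t := by
      rw [Category.assoc, G₂.i_s, translate, G₂.comp_t]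
    have e := cancel_left' G₂ h0
    simp only [mulPt_def] at e
    rw [← e, Scheme.Hom.comp_apply]
    refine comp_mem_closure f eU _ ?_ ?_
    · rw [← Scheme.Hom.comp_apply, pullback.lift_fst, Scheme.Hom.comp_apply, ha]
      exact inv_mem_closure f hy
    · rw [← Scheme.Hom.comp_apply, pullback.lift_snd]
      exact subset_closure hh
  have hqH : q z ∈ Set.range f.fR := hWH.le ⟨hz, hqC⟩
  have e := cancel_right G₂ h0
  simp only [mulPt_def] at e
  rw [← ha z, ← e, Scheme.Hom.comp_apply]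
  refine comp_mem_range f _ ?_ ?_
  · rw [← Scheme.Hom.comp_apply, pullback.lift_fst]; exact hh
  · rw [← Scheme.Hom.comp_apply, pullback.lift_snd, Scheme.Hom.comp_apply]
    exact inv_mem_range f hqH

end hom

end Groth.Agent.GrpdSep
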