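import Mathlib.RingTheory.Spectrum.Prime.Chevalley
import Mathlib.RingTheory.Flat.TorsionFree
import Mathlib.RingTheory.Algebraic.Integral
import Mathlib.RingTheory.UniqueFactorizationDomain.Basic
import Mathlib.RingTheory.FiniteType
import Mathlib.RingTheory.Polynomial.Basic

/-!
Fields inside algebras of finite type over a field are algebraic.
-/

set_option autoImplicit false
set_option linter.style.haveILetI false

universe u

open Polynomial

namespace Groth.Agent.GrpdSep

/-- A field inside a domain of finite type over `k` consists of elements algebraic over `k`. -/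
theorem isAlgebraic_of_field {k F A : Type u} [Field k] [Field F] [CommRing A] [IsDomain A] [Algebra k A]
    [Algebra.FiniteType k A] (τ : F →+* A) (y : F) : IsAlgebraic k (τ y) := by
  classical
  by_contra htr
  let E : Subfield k :=
    { τ.range.comap (algebraMap k A) with
      inv_mem' := fun c hc => by
        obtain ⟨z, hz⟩ : ∃ z, τ z = algebraMap k A c := hc
        refine ⟨z⁻¹, ?_⟩
        rcases eq_or_ne c 0 with rfl | hc0
        · rw [map_zero] at hz; simp [(map_eq_zero τ).1 hz]
        · refine (mul_right_injective₀ (show τ z ≠ 0 by rw [hz]; exact (_root_.map_ne_zero _).2 hc0)) ?_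
          have hz0 : z ≠ 0 := fun h => by rw [h, map_zero] at hz; exact (_root_.map_ne_zero (algebraMap k A)).2 hc0 hz.symm
          change τ z * τ z⁻¹ = τ z * algebraMap k A c⁻¹
          rw [← map_mul, mul_inv_cancel₀ hz0, map_one, hz, ← map_mul, mul_inv_cancel₀ hc0, map_one] }
  let f : k[X] →ₐ[k] A := aeval (τ y)
  have hf : Function.Injective f := transcendental_iff_injective.1 htr
  letI := f.toRingHom.toAlgebra
  haveI : IsScalarTower k k[X] A := IsScalarTower.of_algebraMap_eq' f.comp_algebraMap.symm
  haveI : Algebra.FiniteType k[X] A := Algebra.FiniteType.of_restrictScalars_finiteType k k[X] A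
  haveI : Algebra.FinitePresentation k[X] A := Algebra.FinitePresentation.of_finiteType.1 inferInstance
  haveI : FaithfulSMul k[X] A := (faithfulSMul_iff_algebraMap_injective _ _).2 hf
  haveI : Module.Flat k[X] A := by
    rw [Module.Flat.flat_iff_torsion_eq_bot_of_isBezout, ← Submodule.isTorsionFree_iff_torsion_eq_bot]
    infer_instance
  have hopen := PrimeSpectrum.isOpenMap_comap_of_hasGoingDown_of_finitePresentation (R := k[X]) (S := A) _
    isOpen_univ
  obtain ⟨_, ⟨g, rfl⟩, hg, hsub⟩ := PrimeSpectrum.isTopologicalBasis_basic_opens.exists_subset_of_mem_open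
    (show PrimeSpectrum.comap (algebraMap k[X] A) (⟨⊥, Ideal.isPrime_bot⟩ : PrimeSpectrum A) ∈
      PrimeSpectrum.comap (algebraMap k[X] A) '' Set.univ from ⟨_, Set.mem_univ _, rfl⟩) hopen
  have hg0 : g ≠ 0 := fun h => hg (by rw [h]; exact Submodule.zero_mem _)
  -- the polynomials over `E` divisible by each factor of `g`
  let ι : E[X] →+* k[X] := mapRingHom E.subtype
  let T := (UniqueFactorizationMonoid.factors g).toFinset
  let h : k[X] → E[X] := fun q => if hq : ∃ p : E[X], p ≠ 0 ∧ q ∣ ι p then hq.choose else 1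
  have hh0 : ∀ q, h q ≠ 0 := fun q => by
    simp only [h]; split_ifs with hq
    · exact hq.choose_spec.1
    · exact one_ne_zero
  let P : E[X] := X * ∏ q ∈ T, h q + 1
  have hP : 0 < P.natDegree := by
    have hne : (X * ∏ q ∈ T, h q : E[X]) ≠ 0 := mul_ne_zero X_ne_zero (Finset.prod_ne_zero_iff.2 fun q _ => hh0 q)
    have : (1 : ℕ) ≤ (X * ∏ q ∈ T, h q : E[X]).natDegree := by
      rw [natDegree_mul X_ne_zero (Finset.prod_ne_zero_iff.2 fun q _ => hh0 q), natDegree_X]; omega
    change 0 < (X * ∏ q ∈ T, h q + C 1).natDegree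
    rw [natDegree_add_C]; omega
  have hP0 : ι P ≠ 0 := (Polynomial.map_ne_zero (ne_zero_of_natDegree_gt hP) : _)
  have hPdeg : ¬ IsUnit (ι P) := fun hu => by
    have := natDegree_eq_zero_of_isUnit hu
    rw [show ι P = P.map E.subtype from rfl, natDegree_map] at this
    omega
  obtain ⟨q, hq, hqP⟩ := WfDvdMonoid.exists_irreducible_factor hPdeg hP0
  have hqg : ¬ q ∣ g := fun hd => by
    obtain ⟨q', hq', hass⟩ := UniqueFactorizationMonoid.exists_mem_factors_of_dvd hg0 hq hd
    have hdvd : q' ∣ ι P := (hass.dvd_iff_dvd_left).1 hqP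
    have hex : ∃ p : E[X], p ≠ 0 ∧ q' ∣ ι p := ⟨P, ne_zero_of_natDegree_gt hP, hdvd⟩
    have h1 : q' ∣ ι (X * ∏ r ∈ T, h r) := by
      rw [map_mul, map_prod]
      refine dvd_mul_of_dvd_right ((?_ : q' ∣ ι (h q')).trans
        (Finset.dvd_prod_of_mem (fun r => ι (h r)) (Multiset.mem_toFinset.2 hq'))) _
      simp only [h, dif_pos hex]
      exact hex.choose_spec.2
    have h2 : q' ∣ 1 := by
      have := dvd_sub hdvd h1
      simpa [P] using this
    exact (hass.irreducible hq).not_isUnit (isUnit_of_dvd_one h2)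
  haveI : (Ideal.span {q}).IsPrime := (Ideal.span_singleton_prime hq.ne_zero).2 hq.prime
  obtain ⟨Q, -, hQ⟩ := hsub (show (⟨Ideal.span {q}, inferInstance⟩ : PrimeSpectrum k[X]) ∈ _ from
    fun hmem => hqg (Ideal.mem_span_singleton.1 hmem))
  have hmem : f (ι P) ∈ Q.asIdeal := by
    have : ι P ∈ (PrimeSpectrum.comap (algebraMap k[X] A) Q).asIdeal := by
      rw [hQ]; exact Ideal.mem_span_singleton.2 hqP
    exact this
  -- but it is a nonzero element of the field `τ F`
  obtain ⟨z, hz⟩ : f (ι P) ∈ τ.range := by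
    simp only [f]
    rw [show aeval (τ y) (ι P) = P.eval₂ ((algebraMap k A).comp E.subtype) (τ y) by
      rw [show ι P = P.map E.subtype from rfl, aeval_def, eval₂_map], eval₂_eq_sum, Polynomial.sum_def]
    exact sum_mem fun i _ => mul_mem (show algebraMap k A (P.coeff i).1 ∈ τ.range from (P.coeff i).2)
      (pow_mem (τ.mem_range_self y) i)
  have hz0 : z ≠ 0 := fun e => by
    rw [e, map_zero] at hz
    exact hP0 (hf (by rw [← hz, map_zero]))
  exact Q.isPrime.ne_top (Ideal.eq_top_of_isUnit_mem _ hmem (hz ▸ (isUnit_iff_ne_zero.2 hz0).map τ))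

/-- Two field maps to a domain of finite type land in a common subfield. -/
theorem exists_common_field {k F A : Type u} [Field k] [Field F] [CommRing A] [IsDomain A] (σ : k →+* A)
    (hσ : σ.FiniteType) (τ : F →+* A) :
    ∃ (L : Type u) (_ : Field L) (j : L →+* A) (σ' : k →+* L) (τ' : F →+* L),
      j.comp σ' = σ ∧ j.comp τ' = τ := by
  letI := σ.toAlgebra
  haveI : Algebra.FiniteType k A := hσ
  let L := integralClosure k A
  have hL : IsField L := isField_of_isIntegral_of_isField' (Field.toIsField k)
  letI : Field L := hL.toField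
  refine ⟨L, inferInstance, L.val.toRingHom, algebraMap k L,
    τ.codRestrict L.toSubring fun y => (isAlgebraic_of_field τ y).isIntegral, rfl, rfl⟩

end Groth.Agent.GrpdSep
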