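import Groth.Agent.GrpdSep.Dim
import Groth.Agent.GrpdSep.AlgConst
import Mathlib.AlgebraicGeometry.Morphisms.Flat
import Mathlib.AlgebraicGeometry.Morphisms.Immersion

/-!
The stabilizer of a groupoid over a field.
-/

set_option autoImplicit false
set_option linter.style.haveILetI false
set_option backward.isDefEq.respectTransparency false

universe u

open CategoryTheory CategoryTheory.Limits AlgebraicGeometry Grpd

namespace Groth.Agent.GrpdSep

open Groth.Agent.DimTheory

variable {S : Scheme.{u}} (G : GroupoidScheme S) {k : Type u} [Field k] (eU : G.U ≅ Spec (CommRingCat.of k))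

include eU in
/-- `j` is constant along specializations. -/
theorem j_eq_of_specializes [LocallyOfFiniteType G.s] {a b : G.R} (hab : a ⤳ b) : G.j a = G.j b := by
  obtain ⟨W, hW, hbW, -⟩ := G.R.isBasis_affineOpens.exists_subset_of_mem_open (Set.mem_univ b) isOpen_univ
  obtain ⟨W, hW, rfl⟩ := hW
  replace hW : IsAffineOpen W := hW
  have haW : a ∈ W := hab.mem_open W.2 hbW
  let P := (hW.primeIdealOf ⟨a, haW⟩).asIdeal
  haveI : P.IsPrime := (hW.primeIdealOf ⟨a, haW⟩).2
  let A : CommRingCat.{u} := CommRingCat.of (Γ(G.R, W) ⧸ P)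
  let π : Γ(G.R, W) ⟶ A := CommRingCat.ofHom (Ideal.Quotient.mk P)
  haveI : IsClosedImmersion (Spec.map π) := IsClosedImmersion.spec_of_surjective _ Ideal.Quotient.mk_surjective
  let m : Spec A ⟶ G.R := Spec.map π ≫ hW.fromSpec
  obtain ⟨σ, hσ⟩ := Spec.map_surjective (m ≫ G.s ≫ eU.hom)
  obtain ⟨τ, hτ⟩ := Spec.map_surjective (m ≫ G.t ≫ eU.hom)
  have hft : σ.hom.FiniteType := by
    rw [← HasRingHomProperty.Spec_iff (P := @LocallyOfFiniteType), hσ]
    infer_instance
  haveI : IsDomain A := Ideal.Quotient.isDomain P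
  obtain ⟨L, _, j, σ', τ', hs, ht⟩ := exists_common_field σ.hom hft τ.hom
  let J : Spec A ⟶ Spec (CommRingCat.of L) := Spec.map (CommRingCat.ofHom j)
  haveI : Flat J := by
    rw [HasRingHomProperty.Spec_iff (P := @Flat)]
    algebraize [j]
    exact RingHom.flat_algebraMap_iff.2 inferInstance
  haveI : Surjective J := ⟨fun q => ⟨hW.primeIdealOf ⟨a, haW⟩ |> fun _ => (⟨⊥, Ideal.isPrime_bot⟩ : PrimeSpectrum A),
    Subsingleton.elim (α := PrimeSpectrum L) _ _⟩⟩
  haveI : Epi J := Flat.epi_of_flat_of_surjective J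
  have hfs : J ≫ Spec.map (CommRingCat.ofHom σ') ≫ eU.inv = m ≫ G.s := by
    rw [← Category.assoc, ← Spec.map_comp, show CommRingCat.ofHom σ' ≫ CommRingCat.ofHom j = σ from CommRingCat.hom_ext hs,
      hσ]
    simp
  have hft' : J ≫ Spec.map (CommRingCat.ofHom τ') ≫ eU.inv = m ≫ G.t := by
    rw [← Category.assoc, ← Spec.map_comp, show CommRingCat.ofHom τ' ≫ CommRingCat.ofHom j = τ from CommRingCat.hom_ext ht,
      hτ]
    simp
  let g : Spec (CommRingCat.of L) ⟶ pullback G.pU G.pU :=
    pullback.lift (Spec.map (CommRingCat.ofHom τ') ≫ eU.inv) (Spec.map (CommRingCat.ofHom σ') ≫ eU.inv) (by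
      rw [← cancel_epi J, ← Category.assoc, hft', ← Category.assoc J, hfs]
      simp [G.t_over, G.s_over])
  have hg : m ≫ G.j = J ≫ g := by
    apply pullback.hom_ext
    · simp only [Category.assoc, j_fst, g, pullback.lift_fst, hft']
    · simp only [Category.assoc, j_snd, g, pullback.lift_snd, hfs]
  have hconst : ∀ p q : Spec A, G.j (m p) = G.j (m q) := fun p q => by
    rw [← Scheme.Hom.comp_apply, hg, ← Scheme.Hom.comp_apply, hg, Scheme.Hom.comp_apply, Scheme.Hom.comp_apply]
    exact congrArg g (Subsingleton.elim (α := PrimeSpectrum L) _ _)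
  have hle : P ≤ (hW.primeIdealOf ⟨b, hbW⟩).asIdeal := by
    have h : hW.fromSpec (hW.primeIdealOf ⟨a, haW⟩) ⤳ hW.fromSpec (hW.primeIdealOf ⟨b, hbW⟩) := by
      rwa [hW.fromSpec_primeIdealOf, hW.fromSpec_primeIdealOf]
    exact (PrimeSpectrum.le_iff_specializes _ _).2 (hW.fromSpec.isOpenEmbedding.isInducing.specializes_iff.1 h)
  have hr : ∀ p : Spec Γ(G.R, W), P ≤ p.asIdeal → ∃ q : Spec A, m q = hW.fromSpec p := fun p hp => by
    have : p ∈ Set.range (PrimeSpectrum.comap (Ideal.Quotient.mk P)) := by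
      rw [range_comap_of_surjective _ _ Ideal.Quotient.mk_surjective, Ideal.mk_ker]
      exact hp
    obtain ⟨q, hq⟩ := this
    exact ⟨q, by rw [Scheme.Hom.comp_apply]; exact congrArg hW.fromSpec hq⟩
  obtain ⟨qa, hqa⟩ := hr _ le_rfl
  obtain ⟨qb, hqb⟩ := hr _ hle
  rw [hW.fromSpec_primeIdealOf] at hqa hqb
  simpa [hqa, hqb] using hconst qa qb

include eU in
theorem dim_stabilizer [LocallyOfFiniteType G.s] :
    topologicalKrullDim G.R = topologicalKrullDim G.stabilizer := by
  haveI := subsingleton_U (G := G) eU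
  let u₀ : G.U := eU.inv (IsLocalRing.closedPoint k)
  haveI : IsImmersion G.diag := by
    have : IsImmersion (G.diag ≫ pullback.fst G.pU G.pU) := by rw [diag_fst]; infer_instance
    exact IsImmersion.of_comp G.diag (pullback.fst G.pU G.pU)
  let ι : G.stabilizer ⟶ G.R := pullback.fst G.j G.diag
  haveI : IsImmersion ι := inferInstanceAs (IsImmersion (pullback.fst G.j G.diag))
  refine le_antisymm ?_ ι.isEmbedding.isInducing.topologicalKrullDim_le
  let Z := irreducibleComponent (G.e u₀)
  have hZ : Z ∈ irreducibleComponents G.R := irreducibleComponent_mem_irreducibleComponents _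
  obtain ⟨η, hη⟩ := QuasiSober.sober hZ.1 (isClosed_of_mem_irreducibleComponents Z hZ)
  have hsub : Z ⊆ Set.range ι := fun z hz => by
    change z ∈ Set.range (pullback.fst G.j G.diag)
    rw [Scheme.Pullback.range_fst]
    refine ⟨u₀, ?_⟩
    have e1 : G.j z = G.j (G.e u₀) :=
      (j_eq_of_specializes G eU (hη.specializes hz)).symm.trans
        (j_eq_of_specializes G eU (hη.specializes mem_irreducibleComponent))
    have e2 : G.e ≫ G.j = G.diag := by
      apply pullback.hom_ext
      · rw [Category.assoc, j_fst, G.e_t, diag_fst]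
      · rw [Category.assoc, j_snd, G.e_s, diag_snd]
    exact ((congrArg (fun f : G.U ⟶ pullback G.pU G.pU => f u₀) e2).symm.trans (Scheme.Hom.comp_apply G.e G.j u₀)).trans e1.symm
  rw [← dim_irreducibleComponent G eU Z hZ]
  refine (TopDimLib.dim_subtype_mono hsub).trans (le_of_eq ?_)
  exact (ι.isEmbedding.toHomeomorph.isHomeomorph.topologicalKrullDim_eq _).symm

end Groth.Agent.GrpdSep
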