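import Groth.Prelude.Def_Grpd
import Mathlib.AlgebraicGeometry.Morphisms.Separated
import Mathlib.AlgebraicGeometry.Morphisms.QuasiSeparated

/-!
The diagonal of `(t, s)` is a base change of the identity section of the stabilizer.
-/

set_option autoImplicit false
set_option backward.isDefEq.respectTransparency false

universe u

open AlgebraicGeometry CategoryTheory Limits Grpd

namespace Groth.Agent.GrpdSep

variable {S : Scheme.{u}} (G : GroupoidScheme S)

theorem j_fst : G.j ≫ pullback.fst G.pU G.pU = G.t := pullback.lift_fst _ _ _
theorem j_snd : G.j ≫ pullback.snd G.pU G.pU = G.s := pullback.lift_snd _ _ _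
theorem diag_fst : G.diag ≫ pullback.fst G.pU G.pU = 𝟙 G.U := pullback.lift_fst _ _ _
theorem diag_snd : G.diag ≫ pullback.snd G.pU G.pU = 𝟙 G.U := pullback.lift_snd _ _ _

theorem comm_t : pullback.fst G.j G.j ≫ G.t = pullback.snd G.j G.j ≫ G.t := by
  simpa [GroupoidScheme.j] using congrArg (· ≫ pullback.fst G.pU G.pU) (pullback.condition (f := G.j) (g := G.j))

theorem comm_s : pullback.fst G.j G.j ≫ G.s = pullback.snd G.j G.j ≫ G.s := by
  simpa [GroupoidScheme.j] using congrArg (· ≫ pullback.snd G.pU G.pU) (pullback.condition (f := G.j) (g := G.j))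

/-- `(a, b) ↦ a ∘ b⁻¹`. -/
noncomputable def diffMap : pullback G.j G.j ⟶ G.stabilizer :=
  pullback.lift (pullback.lift (pullback.fst G.j G.j) (pullback.snd G.j G.j ≫ G.i)
      (by rw [Category.assoc, G.i_t, comm_s]) ≫ G.c)
    (pullback.fst G.j G.j ≫ G.t) (by
      apply pullback.hom_ext
      · simp only [j_fst, diag_fst, Category.assoc, Category.comp_id]
        rw [← Category.assoc, G.comp_t]
      · simp only [j_snd, diag_snd, Category.assoc, Category.comp_id]
        rw [← Category.assoc, G.comp_s, Category.assoc, G.i_s, comm_t])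

theorem isPullback_diagonal : IsPullback G.t (pullback.diagonal G.j) G.eStab (diffMap G) := by
  have w : G.t ≫ G.eStab = pullback.diagonal G.j ≫ diffMap G := by
    apply pullback.hom_ext
    · simp only [GroupoidScheme.eStab, diffMap, Category.assoc, pullback.lift_fst]
      rw [← Category.assoc (pullback.diagonal G.j), ← G.comp_i (𝟙 G.R) |>.trans (Category.id_comp _)]
      congr 1
      apply pullback.hom_ext <;> simp
    · simp [GroupoidScheme.eStab, diffMap]
  refine IsPullback.of_isLimit (c := PullbackCone.mk G.t (pullback.diagonal G.j) w)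
    (PullbackCone.isLimitAux' _ fun s => ?_)
  let a := s.snd ≫ pullback.fst G.j G.j
  let b := s.snd ≫ pullback.snd G.j G.j
  have hs := s.condition
  have h1 : pullback.lift a (b ≫ G.i) (by
      simp only [a, b, Category.assoc, G.i_t, comm_s]) ≫ G.c = s.fst ≫ G.e := by
    have := congrArg (· ≫ pullback.fst G.j G.diag) hs
    simp only [GroupoidScheme.eStab, diffMap, Category.assoc, pullback.lift_fst] at this
    refine Eq.trans ?_ this.symm
    refine Eq.trans (congrArg (· ≫ G.c) ?_) (Category.assoc _ _ _)
    apply pullback.hom_ext <;> simp [a, b]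
  have h2 : s.fst = a ≫ G.t := by
    have := congrArg (· ≫ pullback.snd G.j G.diag) hs
    simp only [GroupoidScheme.eStab, diffMap, Category.assoc, pullback.lift_snd, Category.comp_id] at this
    simpa [a] using this
  have hab : a = b := by
    have hst : a ≫ G.s = b ≫ G.s := by simp only [a, b, Category.assoc, comm_s]
    have htt : a ≫ G.t = b ≫ G.t := by simp only [a, b, Category.assoc, comm_t]
    have e := G.assoc a (b ≫ G.i) b (hst.trans ((congrArg (b ≫ ·) G.i_t).symm.trans (Category.assoc b G.i G.t).symm)) (by rw [Category.assoc, G.i_s])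
    calc a = pullback.lift a (pullback.lift (b ≫ G.i) b (by rw [Category.assoc, G.i_s]) ≫ G.c) (hst.trans ((congrArg (b ≫ ·) G.i_t).symm.trans ((Category.assoc b G.i G.t).symm.trans (G.comp_t _ _ _).symm))) ≫ G.c := by
          conv_lhs => rw [← G.comp_e a]
          congr 1
          apply pullback.hom_ext
          · simp
          · simp only [pullback.lift_snd, G.i_comp, reassoc_of% hst]
      _ = _ := e.symm
      _ = b := by
          conv_rhs => rw [← G.e_comp b]
          congr 1
          apply pullback.hom_ext
          · simp only [pullback.lift_fst, h1, h2, htt, Category.assoc]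
          · simp
  refine ⟨a, h2.symm, ?_, ?_⟩
  · change a ≫ pullback.diagonal G.j = s.snd
    apply pullback.hom_ext
    · simp [a]
    · rw [Category.assoc, pullback.diagonal_snd, Category.comp_id, hab]
  · intro m _ hm
    have := congrArg (· ≫ pullback.fst G.j G.j) hm
    simpa [a] using this

theorem eStab_toU : G.eStab ≫ G.stabilizerToU = 𝟙 G.U := pullback.lift_snd _ _ _

end Groth.Agent.GrpdSep
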