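import Groth.Agent.GrpdSep.Field
import Groth.Agent.GrpdSep.Restrict
import Groth.Agent.Cartier.Scheme

/-!
Cartier's theorem for groupoids over a field: the local ring at the identity is a domain.
-/

set_option autoImplicit false
set_option linter.style.haveILetI false
set_option backward.isDefEq.respectTransparency false

universe u

open CategoryTheory CategoryTheory.Limits AlgebraicGeometry Grpd TrivSqZeroExt

namespace Groth.Agent.GrpdSep

variable {S : Scheme.{u}} (G : GroupoidScheme S) {K : Type u} [Field K] (eU : G.U ≅ Spec (CommRingCat.of K))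

theorem mulPt_s_comp {T : Scheme.{u}} {α β : T ⟶ G.R} (h : α ≫ G.s = β ≫ G.t)
    {V : Scheme.{u}} {v : G.U ⟶ V} : mulPt G α β h ≫ G.s ≫ v = β ≫ G.s ≫ v := by
  rw [← Category.assoc, mulPt_s, Category.assoc]

/-- The dual numbers over a ring, as an object. -/
noncomputable abbrev dual (A : CommRingCat.{u}) : CommRingCat.{u} := CommRingCat.of (DualNumber A)

/-- The inclusion of the constants. -/
noncomputable def dInl (A : CommRingCat.{u}) : A ⟶ dual A :=
  CommRingCat.ofHom (TrivSqZeroExt.inlHom A A)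

/-- The projection to the constants. -/
noncomputable def dFst (A : CommRingCat.{u}) : dual A ⟶ A :=
  CommRingCat.ofHom (TrivSqZeroExt.fstHom A A A).toRingHom

/-- Functoriality. -/
noncomputable def dMap {A B : CommRingCat.{u}} (f : A ⟶ B) : dual A ⟶ dual B :=
  CommRingCat.ofHom (Cartier.dualMap f.hom)

@[reassoc] theorem dInl_fst (A : CommRingCat.{u}) : dInl A ≫ dFst A = 𝟙 A :=
  CommRingCat.hom_ext (RingHom.ext fun _ => rfl)

@[reassoc] theorem dMap_fst {A B : CommRingCat.{u}} (f : A ⟶ B) : dMap f ≫ dFst B = dFst A ≫ f :=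
  CommRingCat.hom_ext (RingHom.ext fun _ => rfl)

@[reassoc] theorem dInl_map {A B : CommRingCat.{u}} (f : A ⟶ B) : dInl A ≫ dMap f = f ≫ dInl B :=
  CommRingCat.hom_ext (RingHom.ext fun a => TrivSqZeroExt.ext rfl (map_zero f.hom))

theorem dMap_comp_eq_id {A B : CommRingCat.{u}} (f : A ⟶ B) (g : B ⟶ A) (h : f ≫ g = 𝟙 A) :
    dMap f ≫ dMap g = 𝟙 (dual A) :=
  CommRingCat.hom_ext (RingHom.ext fun x => TrivSqZeroExt.ext (congr($h x.fst)) (congr($h x.snd)))

include eU in
/-- An infinitesimal arrow at the identity, translated: a lift of the universal point. -/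
theorem exists_lift (A : CommRingCat.{u}) [IsLocalRing A] (st : Spec A ⟶ G.R) [Mono st]
    (fac : ∀ w : Spec (dual A) ⟶ G.R, Spec.map (dFst A) ≫ w = st →
      ∃ ψ : A ⟶ dual A, Spec.map ψ ≫ st = w)
    (φ τ : CommRingCat.of K ⟶ A) (ε₀ : A ⟶ CommRingCat.of K)
    (hφ : Spec.map φ = st ≫ G.s ≫ eU.hom) (hτ : Spec.map τ = st ≫ G.t ≫ eU.hom)
    (hε₀ : Spec.map ε₀ ≫ st = eU.inv ≫ G.e) (hτε : τ ≫ ε₀ = 𝟙 _)
    (lam : A ⟶ dual (CommRingCat.of K)) (elr : lam ≫ dFst _ = ε₀)
    (eφl : φ ≫ lam = dInl _) :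
    ∃ ψ : A ⟶ dual A, ψ ≫ dFst A = 𝟙 A ∧ ψ ≫ dMap ε₀ = lam ∧ φ ≫ ψ = φ ≫ dInl A := by
  let pB : Spec (dual A) ⟶ G.R := Spec.map (dInl A) ≫ st
  let δ : Spec (dual (CommRingCat.of K)) ⟶ G.R := Spec.map lam ≫ st
  have hδs : δ ≫ G.s = Spec.map (dInl _) ≫ eU.inv := by
    rw [← cancel_mono eU.hom]
    simp only [δ, Category.assoc, Iso.inv_hom_id, Category.comp_id]
    rw [← hφ, ← Spec.map_comp, eφl]
  have hsrc : (Spec.map (dMap τ) ≫ δ) ≫ G.s = pB ≫ G.t := by
    rw [Category.assoc, hδs, ← cancel_mono eU.hom]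
    simp only [pB, Category.assoc, Iso.inv_hom_id, Category.comp_id]
    rw [← hτ, ← Spec.map_comp, ← Spec.map_comp, dInl_map]
  have a₁ : Spec.map (dFst A) ≫ Spec.map (dMap τ) ≫ δ = (st ≫ G.t) ≫ G.e :=
    (Spec.map_comp_assoc (dMap τ) (dFst A) δ).symm.trans <|
      (congrArg (fun x => Spec.map x ≫ δ) (dMap_fst τ)).trans <|
      (Spec.map_comp_assoc (dFst _) τ δ).trans <|
      (congrArg (fun x => Spec.map τ ≫ x) ((Spec.map_comp_assoc lam (dFst _) st).symm.trans
        ((congrArg (fun x => Spec.map x ≫ st) elr).trans hε₀))).trans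
      ((congrArg (fun x => x ≫ eU.inv ≫ G.e) hτ).trans (by simp))
  have a₂ : Spec.map (dFst A) ≫ pB = st :=
    (Spec.map_comp_assoc (dInl A) (dFst A) st).symm.trans <|
      (congrArg (fun x => Spec.map x ≫ st) (dInl_fst A)).trans (by simp)
  have b₁ : Spec.map (dMap ε₀) ≫ Spec.map (dMap τ) ≫ δ = δ :=
    (Spec.map_comp_assoc (dMap τ) (dMap ε₀) δ).symm.trans <|
      (congrArg (fun x => Spec.map x ≫ δ) (dMap_comp_eq_id τ ε₀ hτε)).trans (by simp)
  have b₂ : Spec.map (dMap ε₀) ≫ pB = (δ ≫ G.s) ≫ G.e :=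
    (Spec.map_comp_assoc (dInl A) (dMap ε₀) st).symm.trans <|
      (congrArg (fun x => Spec.map x ≫ st) (dInl_map ε₀)).trans <|
      (Spec.map_comp_assoc ε₀ (dInl _) st).trans <|
      (congrArg (fun x => Spec.map (dInl _) ≫ x) hε₀).trans
      ((Category.assoc _ _ _).symm.trans (congrArg (fun x => x ≫ G.e) hδs.symm))
  have h₁ : Spec.map (dFst A) ≫ mulPt G (Spec.map (dMap τ) ≫ δ) pB hsrc = st :=
    (mulPt_comp G (Spec.map (dFst A)) hsrc).trans
      ((mulPt_congr G _ a₁ a₂).trans (mulPt_unit_left G st))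
  have h₂ : Spec.map (dMap ε₀) ≫ mulPt G (Spec.map (dMap τ) ≫ δ) pB hsrc = δ :=
    (mulPt_comp G (Spec.map (dMap ε₀)) hsrc).trans
      ((mulPt_congr G _ b₁ b₂).trans (mulPt_unit_right G δ))
  obtain ⟨ψ, hψ⟩ := fac _ h₁
  refine ⟨ψ, Spec.map_injective ?_, Spec.map_injective ?_, Spec.map_injective ?_⟩
  · rw [← cancel_mono st, Spec.map_comp, Category.assoc, hψ, Spec.map_id, h₁, Category.id_comp]
  · rw [← cancel_mono st, Spec.map_comp, Category.assoc, hψ]
    exact h₂
  · rw [Spec.map_comp, Spec.map_comp, hφ, ← Category.assoc, hψ, mulPt_s_comp G hsrc]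
    simp [pB]

/-- A lift of the identity to the dual numbers gives a derivation. -/
theorem exists_derivation_of_lift {A : CommRingCat.{u}} [Algebra K A] (φ : CommRingCat.of K ⟶ A)
    (hφ : ∀ c, φ c = algebraMap K A c) (ψ : A ⟶ dual A) (h1 : ψ ≫ dFst A = 𝟙 A)
    (h3 : φ ≫ ψ = φ ≫ dInl A) : ∃ D : Derivation K A A, ∀ a, D a = (ψ a).snd := by
  have hfst : ∀ a, (ψ a).fst = a := fun a => congr($h1 a)
  let D₀ : A →ₗ[K] A :=
    { toFun := fun a => (ψ a).snd
      map_add' := fun a b => by rw [map_add, TrivSqZeroExt.snd_add]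
      map_smul' := fun c a => by
        have h : ψ (φ c) = dInl A (φ c) := congr($h3 c)
        have hs : c • a = φ c * a := by rw [Algebra.smul_def, hφ]
        rw [hs, map_mul, DualNumber.snd_mul, h, hfst, RingHom.id_apply, Algebra.smul_def, ← hφ]
        change φ c * (ψ a).snd + 0 * a = _
        rw [zero_mul, add_zero] }
  refine ⟨Derivation.mk' D₀ fun a b => ?_, fun a => rfl⟩
  change (ψ (a * b)).snd = a * (ψ b).snd + b * (ψ a).snd
  rw [map_mul, DualNumber.snd_mul, hfst, hfst]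
  ring

include eU in
theorem isDomain_stalk_e [CharZero K] [LocallyOfFiniteType G.s] :
    IsDomain (G.R.presheaf.stalk (G.e (eU.inv (IsLocalRing.closedPoint K)))) := by
  set e := G.e (eU.inv (IsLocalRing.closedPoint K))
  obtain ⟨A, hA⟩ : ∃ A, A = G.R.presheaf.stalk e := ⟨_, rfl⟩
  suffices IsDomain A by rw [← hA]; exact this
  subst hA
  set A := G.R.presheaf.stalk e
  haveI : IsLocallyNoetherian G.R := LocallyOfFiniteType.isLocallyNoetherian (G.s ≫ eU.hom)
  haveI : IsNoetherianRing A := inferInstance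
  let st := G.R.fromSpecStalk e
  -- the algebra structure by the source, and the target
  obtain ⟨φ, hφ⟩ := Spec.map_surjective (st ≫ G.s ≫ eU.hom)
  obtain ⟨τ, hτ⟩ := Spec.map_surjective (st ≫ G.t ≫ eU.hom)
  letI : Algebra K A := φ.hom.toAlgebra
  -- the identity
  obtain ⟨ε₀, hε₀, -⟩ := Cartier.exists_factor (R := CommRingCat.of K) (eU.inv ≫ G.e) e
    (Scheme.Hom.comp_apply _ _ _)
  haveI hεloc : IsLocalHom ε₀.hom := by
    obtain ⟨ε₁, hε₁, h⟩ := Cartier.exists_factor (R := CommRingCat.of K) (eU.inv ≫ G.e) e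
      (Scheme.Hom.comp_apply _ _ _)
    have : ε₁ = ε₀ := Spec.map_injective ((cancel_mono st).1 (hε₁.trans hε₀.symm))
    exact this ▸ h
  have hφε : φ ≫ ε₀ = 𝟙 _ := Spec.map_injective (by
    rw [Spec.map_comp, hφ, ← Category.assoc, hε₀, Spec.map_id]
    simp [reassoc_of% G.e_s])
  have hτε : τ ≫ ε₀ = 𝟙 _ := Spec.map_injective (by
    rw [Spec.map_comp, hτ, ← Category.assoc, hε₀, Spec.map_id]
    simp [reassoc_of% G.e_t])
  let ε : A →ₐ[K] K :=
    { ε₀.hom with commutes' := fun c => congr($hφε c) }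
  have hε : ∀ a, a ∈ IsLocalRing.maximalIdeal A ↔ ε a = 0 := fun a => by
    have : IsUnit (ε₀.hom a) ↔ IsUnit a := isUnit_map_iff ε₀.hom a
    rw [IsLocalRing.mem_maximalIdeal, mem_nonunits_iff, ← this, isUnit_iff_ne_zero, not_not]
    rfl
  refine Cartier.isDomain_of_derivations ε hε fun l hl1 hl2 => ?_
  -- the tangent vector
  let lam₀ : A →+* DualNumber K :=
    { toFun := fun a => (ε a, l a)
      map_one' := TrivSqZeroExt.ext (map_one ε) hl1
      map_mul' := fun a b => by
        apply TrivSqZeroExt.ext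
        · exact map_mul ε a b
        · change l (a * b) = ε a • l b + MulOpposite.op (ε b) • l a
          have : (a - algebraMap K A (ε a)) * (b - algebraMap K A (ε b)) ∈
              IsLocalRing.maximalIdeal A ^ 2 := by
            rw [pow_two]
            exact Ideal.mul_mem_mul (by simp [hε]) (by simp [hε])
          have h := hl2 _ this
          have e : (a - algebraMap K A (ε a)) * (b - algebraMap K A (ε b)) =
              a * b - ε a • b - ε b • a + (ε a * ε b) • (1 : A) := by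
            simp only [Algebra.smul_def, map_mul]; ring
          rw [e, map_add, map_sub, map_sub, map_smul, map_smul, map_smul, hl1] at h
          simp only [smul_eq_mul, mul_zero, add_zero, MulOpposite.smul_eq_mul_unop,
            MulOpposite.unop_op] at h ⊢
          linear_combination h
      map_zero' := TrivSqZeroExt.ext (map_zero ε) (map_zero l)
      map_add' := fun a b => TrivSqZeroExt.ext (map_add ε a b) (map_add l a b) }
  have fac : ∀ w : Spec (dual A) ⟶ G.R, Spec.map (dFst A) ≫ w = st →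
      ∃ ψ : A ⟶ dual A, Spec.map ψ ≫ st = w := fun w hw => by
    haveI : IsLocalRing (DualNumber A) := Cartier.isLocalRing_dualNumber A
    haveI : IsLocalHom (dFst A).hom := ⟨fun a ha => TrivSqZeroExt.isUnit_iff_isUnit_fst.2 ha⟩
    have hc : Spec.map (dFst A) (IsLocalRing.closedPoint A) = IsLocalRing.closedPoint (dual A) :=
      IsLocalRing.comap_closedPoint (dFst A).hom
    have hpt : w (IsLocalRing.closedPoint (dual A)) = e :=
      (congrArg w hc).symm.trans ((Scheme.Hom.comp_apply _ w _).symm.trans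
        ((congrArg (fun z : Spec A ⟶ G.R => z (IsLocalRing.closedPoint A)) hw).trans
          Scheme.fromSpecStalk_closedPoint))
    obtain ⟨ψ, hψ, -⟩ := Cartier.exists_factor (R := dual A) w e hpt
    exact ⟨ψ, hψ⟩
  let lam : A ⟶ dual (CommRingCat.of K) := CommRingCat.ofHom lam₀
  have elr : lam ≫ dFst _ = ε₀ := CommRingCat.hom_ext (RingHom.ext fun _ => rfl)
  have eφl : φ ≫ lam = dInl _ := by
    refine CommRingCat.hom_ext (RingHom.ext fun c => TrivSqZeroExt.ext ?_ ?_)
    · exact congr($hφε c)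
    · change l (algebraMap K A c) = 0
      rw [Algebra.algebraMap_eq_smul_one, map_smul, hl1, smul_zero]
  obtain ⟨ψ, h₁, h₂, h₃⟩ := exists_lift G eU A st fac φ τ ε₀ hφ hτ hε₀ hτε lam elr eφl
  obtain ⟨D, hD⟩ := exists_derivation_of_lift φ (fun _ => rfl) ψ h₁ h₃
  refine ⟨D, fun a => ?_⟩
  have h := congrArg TrivSqZeroExt.snd (congr($h₂ a))
  exact (congrArg ε (hD a)).trans h
end Groth.Agent.GrpdSep
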