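import Groth.Agent.GrpdSep.ImageGrpd
import Groth.Agent.GrpdSep.Field
import Groth.Agent.GeomRed.Tensor
import Groth.Agent.RedSepLib.Reduced

/-!
The reduced closure of a morphism of groupoid schemes over a perfect field is a groupoid scheme.
-/

set_option autoImplicit false
set_option linter.style.haveILetI false
set_option backward.isDefEq.respectTransparency false

universe u

open CategoryTheory CategoryTheory.Limits AlgebraicGeometry

namespace Groth.Agent.GrpdSep.ImageGrpd

variable {S : Scheme.{u}} {G₁ G₂ : Grpd.GroupoidScheme S}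

/-- Points of a pair lift along a map on both factors. -/
theorem exists_lift_pair {A Z U : Scheme.{u}} (π : A ⟶ Z) (s t : Z ⟶ U) {s' t' : A ⟶ U} (hs : π ≫ s = s') (ht : π ≫ t = t')
    (h : (pullback.fst s' t' ≫ π) ≫ s = (pullback.snd s' t' ≫ π) ≫ t)
    (x : ↥(pullback s t)) (r r' : A) (h₁ : π r = pullback.fst s t x) (h₂ : π r' = pullback.snd s t x) :
    ∃ w, True ∧ pullback.lift (pullback.fst s' t' ≫ π) (pullback.snd s' t' ≫ π) h w = x := by
  subst hs ht
  let d₁ : pullback (π ≫ s) t ⟶ pullback s t :=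
    pullback.lift (pullback.fst _ _ ≫ π) (pullback.snd _ _) (by rw [Category.assoc, pullback.condition])
  let d₂ : pullback (π ≫ s) (π ≫ t) ⟶ pullback (π ≫ s) t :=
    pullback.lift (pullback.fst _ _) (pullback.snd _ _ ≫ π) (by rw [Category.assoc, pullback.condition])
  obtain ⟨y, hy₁, hy₂⟩ := Scheme.exists_preimage_of_isPullback
    (IsPullback.of_right (h₁₁ := d₁) (v₁₁ := pullback.fst _ _) (h₂₁ := π)
      (by rw [pullback.lift_snd]; exact (IsPullback.of_hasPullback (π ≫ s) t).flip)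
      (pullback.lift_fst _ _ _) (IsPullback.of_hasPullback s t).flip) x r h₁.symm
  obtain ⟨w, hw₁, hw₂⟩ := Scheme.exists_preimage_of_isPullback
    (IsPullback.of_right (h₁₁ := d₂) (v₁₁ := pullback.snd _ _) (h₂₁ := π)
      (by rw [pullback.lift_fst]; exact IsPullback.of_hasPullback (π ≫ s) (π ≫ t))
      (pullback.lift_snd _ _ _) (IsPullback.of_hasPullback (π ≫ s) t)) y r' (by
        rw [h₂, ← hy₁, ← Scheme.Hom.comp_apply, pullback.lift_snd])
  refine ⟨w, trivial, ?_⟩
  rw [← hy₁, ← hw₁, ← Scheme.Hom.comp_apply]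
  exact congrArg (fun g : _ ⟶ pullback s t => g w) (pullback.hom_ext (by simp [d₁, d₂]) (by simp [d₁, d₂]))

/-- Pairs from the closure of the range are limits of pairs from the range. -/
theorem mem_closure_pairs {A Z R U : Scheme.{u}} [Subsingleton U] [IsIntegral U] (a : A ⟶ R) (ι : Z ⟶ R) (s t : R ⟶ U)
    (hι : ∀ z, ι z ∈ closure (Set.range a)) (z : ↥(pullback (ι ≫ s) (ι ≫ t))) :
    pullback.lift (pullback.fst (ι ≫ s) (ι ≫ t) ≫ ι) (pullback.snd _ _ ≫ ι) (by simpa using pullback.condition) z ∈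
      closure (Set.range (pullback.lift (pullback.fst (a ≫ s) (a ≫ t) ≫ a) (pullback.snd _ _ ≫ a)
        (by simpa using pullback.condition) : pullback (a ≫ s) (a ≫ t) ⟶ pullback s t)) := by
  rw [mem_closure_iff]
  intro W hW hzW
  let jM : pullback s (ι ≫ t) ⟶ pullback s t :=
    pullback.lift (pullback.fst _ _) (pullback.snd _ _ ≫ ι) (by rw [Category.assoc, pullback.condition])
  let lM : pullback (ι ≫ s) (ι ≫ t) ⟶ pullback s (ι ≫ t) :=
    pullback.lift (pullback.fst _ _ ≫ ι) (pullback.snd _ _) (by rw [Category.assoc, pullback.condition])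
  have hzM : jM (lM z) ∈ W := by
    rw [← Scheme.Hom.comp_apply]
    convert hzW using 1
    exact congrArg (fun g : _ ⟶ pullback s t => g z) (pullback.hom_ext (by simp [jM, lM]) (by simp [jM, lM]))
  haveI : UniversallyOpen (pullback.fst s (ι ≫ t)) := MorphismProperty.pullback_fst _ _ inferInstance
  have hpz : pullback.fst s (ι ≫ t) (lM z) ∈ closure (Set.range a) := by
    rw [← Scheme.Hom.comp_apply, pullback.lift_fst, Scheme.Hom.comp_apply]; exact hι _
  obtain ⟨_, ⟨x, hx, rfl⟩, r, hr⟩ := mem_closure_iff.1 hpz _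
    ((pullback.fst s (ι ≫ t)).isOpenMap _ (hW.preimage jM.continuous)) ⟨_, hzM, rfl⟩
  let dA : pullback (a ≫ s) t ⟶ pullback s t :=
    pullback.lift (pullback.fst _ _ ≫ a) (pullback.snd _ _) (by rw [Category.assoc, pullback.condition])
  obtain ⟨y, hy, -⟩ := Scheme.exists_preimage_of_isPullback
    (IsPullback.of_right (h₁₁ := dA) (v₁₁ := pullback.fst _ _) (h₂₁ := a)
      (by rw [pullback.lift_snd]; exact (IsPullback.of_hasPullback (a ≫ s) t).flip)
      (pullback.lift_fst _ _ _) (IsPullback.of_hasPullback s t).flip) (jM x) r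
    (by rw [hr, ← Scheme.Hom.comp_apply, pullback.lift_fst])
  haveI : UniversallyOpen (pullback.snd (a ≫ s) t) := MorphismProperty.pullback_snd _ _ inferInstance
  have hqy : pullback.snd (a ≫ s) t y ∈ closure (Set.range a) := by
    have e : pullback.snd (a ≫ s) t y = pullback.snd s t (dA y) :=
      (congrArg (fun g : _ ⟶ R => g y) (pullback.lift_snd (pullback.fst (a ≫ s) t ≫ a) _ _)).symm
    rw [e, hy, ← Scheme.Hom.comp_apply, pullback.lift_snd, Scheme.Hom.comp_apply]; exact hι _
  obtain ⟨_, ⟨y', hy', rfl⟩, r', hr'⟩ := mem_closure_iff.1 hqy _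
    ((pullback.snd (a ≫ s) t).isOpenMap _ (hW.preimage dA.continuous)) ⟨y, by rw [Set.mem_preimage, hy]; exact hx, rfl⟩
  obtain ⟨w, -, hw⟩ := exists_lift_pair a s t rfl rfl (by simpa using pullback.condition) (dA y')
    (pullback.fst (a ≫ s) t y') r'
    (by rw [← Scheme.Hom.comp_apply, ← Scheme.Hom.comp_apply dA, pullback.lift_fst])
    (by rw [hr', ← Scheme.Hom.comp_apply, pullback.lift_snd])
  exact ⟨dA y', hy', w, hw⟩

variable (f : Grpd.GroupoidScheme.Hom G₁ G₂)

theorem exists_closure {k : Type u} [Field k] [PerfectField k] (eU : G₂.U ≅ Spec (CommRingCat.of k)) [IsIso f.fU] :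
    ∃ (G' : Grpd.GroupoidScheme S) (ψ : Grpd.GroupoidScheme.Hom G' G₂) (_ : IsIso ψ.fU),
      IsClosedImmersion ψ.fR ∧ IsReduced G'.R ∧ Set.range ⇑ψ.fR = closure (Set.range ⇑f.fR) := by
  haveI := GrpdSep.subsingleton_U eU
  haveI := GrpdSep.isIntegral_U eU
  haveI : IsReduced G₁.U := isReduced_of_isOpenImmersion f.fU
  haveI : IsReduced G₂.U := inferInstance
  let a := f.fR
  let C : TopologicalSpace.Closeds G₂.R := ⟨closure (Set.range a), isClosed_closure⟩
  let ι := (Scheme.IdealSheafData.vanishingIdeal C).subschemeι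
  haveI hZ : IsReduced (Scheme.IdealSheafData.vanishingIdeal C).subscheme := RedSepLib.isReduced_vanishingIdeal C
  have hr : Set.range ι = closure (Set.range a) := RedSepLib.range_vanishingIdeal_subschemeι C
  obtain ⟨e', he'⟩ : ∃ e', e' ≫ ι = G₂.e := RedSepLib.exists_lift_of_range_subset G₂.e ι (by
    rw [hr]
    rintro _ ⟨x, rfl⟩
    refine subset_closure ⟨(inv f.fU ≫ G₁.e) x, ?_⟩
    have e : (inv f.fU ≫ G₁.e) ≫ a = G₂.e := by rw [Category.assoc, comm_e, IsIso.inv_hom_id_assoc]
    exact congrArg (fun h : G₂.U ⟶ G₂.R => h x) e)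
  obtain ⟨i', hi'⟩ := RedSepLib.exists_lift_of_range_subset (ι ≫ G₂.i) ι (by
    rw [hr]
    rintro _ ⟨x, rfl⟩
    rw [Scheme.Hom.comp_apply]
    refine (closure_mono ?_) (image_closure_subset_closure_image G₂.i.continuous ⟨ι x, hr.le ⟨x, rfl⟩, rfl⟩)
    rintro _ ⟨_, ⟨r, rfl⟩, rfl⟩
    exact ⟨G₁.i r, congrArg (fun h : G₁.R ⟶ G₂.R => h r) (comm_i f)⟩)
  have hw : (pullback.fst (ι ≫ G₂.s) (ι ≫ G₂.t) ≫ ι) ≫ G₂.s = (pullback.snd _ _ ≫ ι) ≫ G₂.t := by
    simpa [Category.assoc] using (pullback.condition (f := ι ≫ G₂.s) (g := ι ≫ G₂.t))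
  obtain ⟨c', hc'⟩ : ∃ c', c' ≫ ι = pullback.lift _ _ hw ≫ G₂.c := by
    haveI : IsReduced (pullback (ι ≫ G₂.s) (ι ≫ G₂.t)) := by
      haveI := GeomRed.isReduced_pullback_of_perfectField ((ι ≫ G₂.s) ≫ eU.hom) ((ι ≫ G₂.t) ≫ eU.hom)
      exact isReduced_of_isOpenImmersion (pullback.map (ι ≫ G₂.s) (ι ≫ G₂.t) ((ι ≫ G₂.s) ≫ eU.hom)
        ((ι ≫ G₂.t) ≫ eU.hom) (𝟙 _) (𝟙 _) eU.hom (Category.id_comp _).symm (Category.id_comp _).symm)
    refine RedSepLib.exists_lift_of_range_subset _ ι ?_
    rw [hr]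
    rintro _ ⟨z, rfl⟩
    have hz := mem_closure_pairs a ι G₂.s G₂.t (fun x => hr.le ⟨x, rfl⟩) z
    have key : (pullback.lift _ _ hw ≫ G₂.c) z = G₂.c (pullback.lift _ _ hw z) := Scheme.Hom.comp_apply _ _ _
    rw [key]
    refine (closure_mono ?_) (image_closure_subset_closure_image G₂.c.continuous ⟨_, hz, rfl⟩)
    rintro _ ⟨_, ⟨w, rfl⟩, rfl⟩
    let u := pullback.fst (a ≫ G₂.s) (a ≫ G₂.t)
    let v := pullback.snd (a ≫ G₂.s) (a ≫ G₂.t)
    have huv : u ≫ G₁.s = v ≫ G₁.t := by
      rw [← cancel_mono f.fU, Category.assoc, Category.assoc, ← f.comm_s, ← f.comm_t]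
      exact pullback.condition
    refine ⟨(pullback.lift u v huv ≫ G₁.c) w, ?_⟩
    rw [← Scheme.Hom.comp_apply, ← Scheme.Hom.comp_apply]
    exact congrArg (fun g : _ ⟶ G₂.R => g w) (f.comm_c u v huv)
  have hcc : ∀ {T : Scheme.{u}} (α β : T ⟶ (Scheme.IdealSheafData.vanishingIdeal C).subscheme) (h : α ≫ ι ≫ G₂.s = β ≫ ι ≫ G₂.t),
      (pullback.lift α β h ≫ c') ≫ ι = pullback.lift (α ≫ ι) (β ≫ ι) (by simpa [Category.assoc] using h) ≫ G₂.c := by
    intro T α β h
    rw [Category.assoc, hc', ← Category.assoc]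
    congr 1
    apply pullback.hom_ext <;> simp
  let G' : Grpd.GroupoidScheme S :=
    { U := G₂.U, R := (Scheme.IdealSheafData.vanishingIdeal C).subscheme, pU := G₂.pU, pR := ι ≫ G₂.pR, s := ι ≫ G₂.s, t := ι ≫ G₂.t, e := e', i := i', c := c'
      s_over := by rw [Category.assoc, G₂.s_over]
      t_over := by rw [Category.assoc, G₂.t_over]
      comp_s := fun α β h => by rw [← Category.assoc, hcc, G₂.comp_s, Category.assoc]
      comp_t := fun α β h => by rw [← Category.assoc, hcc, G₂.comp_t, Category.assoc]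
      assoc := fun α β γ h₁ h₂ => by
        rw [← cancel_mono ι, hcc]
        refine Eq.trans ?_ ((G₂.assoc (α ≫ ι) (β ≫ ι) (γ ≫ ι) (by simpa [Category.assoc] using h₁)
          (by simpa [Category.assoc] using h₂)).trans (Eq.trans ?_ (hcc _ _ _).symm))
        · congr 1
          apply pullback.hom_ext
          · rw [pullback.lift_fst, pullback.lift_fst, hcc]
          · rw [pullback.lift_snd, pullback.lift_snd]
        · congr 1
          apply pullback.hom_ext
          · rw [pullback.lift_fst, pullback.lift_fst]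
          · rw [pullback.lift_snd, pullback.lift_snd, hcc]
      e_s := by rw [reassoc_of% he', G₂.e_s]
      e_t := by rw [reassoc_of% he', G₂.e_t]
      comp_e := fun α => by
        rw [← cancel_mono ι, hcc]
        simp only [Category.assoc, he']
        simpa [Category.assoc] using G₂.comp_e (α ≫ ι)
      e_comp := fun α => by
        rw [← cancel_mono ι, hcc]
        simp only [Category.assoc, he']
        simpa [Category.assoc] using G₂.e_comp (α ≫ ι)
      i_s := by rw [reassoc_of% hi', G₂.i_s]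
      i_t := by rw [reassoc_of% hi', G₂.i_t]
      comp_i := fun α => by
        rw [← cancel_mono ι, hcc]
        simp only [Category.assoc, he', hi']
        simpa [Category.assoc] using G₂.comp_i (α ≫ ι)
      i_comp := fun α => by
        rw [← cancel_mono ι, hcc]
        simp only [Category.assoc, he', hi']
        simpa [Category.assoc] using G₂.i_comp (α ≫ ι) }
  let ψ : Grpd.GroupoidScheme.Hom G' G₂ :=
    { fU := 𝟙 _, fR := ι, fU_over := Category.id_comp _, comm_s := (Category.comp_id _).symm,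
      comm_t := (Category.comp_id _).symm, comm_c := fun α β h => hcc α β h }
  exact ⟨G', ψ, (inferInstance : IsIso (𝟙 G₂.U)), (inferInstance : IsClosedImmersion ι), hZ, hr⟩

end Groth.Agent.GrpdSep.ImageGrpd
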