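import Groth.Agent.GrpdSep.Basic

/-!
Descending a largest open along the projection of a groupoid.
-/

set_option autoImplicit false
set_option linter.style.haveILetI false
set_option backward.isDefEq.respectTransparency false

universe u

open CategoryTheory CategoryTheory.Limits AlgebraicGeometry Grpd

namespace Groth.Agent.GrpdSep

theorem exists_open_pullback_eq (S : Scheme.{u}) (G : Grpd.GroupoidScheme S) {U' : Scheme.{u}} (g : U' ⟶ G.U) (P Q R : MorphismProperty Scheme.{u}) [P.RespectsIso] (hRQ : R ≤ Q) [Q.IsStableUnderBaseChange] [Q.IsStableUnderComposition] (W : ∀ {X Y : Scheme.{u}} (f : X ⟶ Y), Q f → X.Opens) (hWP : ∀ {X Y : Scheme.{u}} (f : X ⟶ Y) (hf : Q f), P ((W f hf).ι ≫ f)) (hWmax : ∀ {X Y : Scheme.{u}} (f : X ⟶ Y) (hf : Q f) (V : X.Opens), P (V.ι ≫ f) → V ≤ W f hf) (hWbc : ∀ {X Y Y' : Scheme.{u}} (f : X ⟶ Y) (hf : Q f) (b : Y' ⟶ Y), R b → ∀ hf' : Q (pullback.snd f b), pullback.fst f b ⁻¹ᵁ W f hf = W (pullback.snd f b) hf') (hs : R G.s) (ht : R G.t) (hg : Q g) (hh : Q (pullback.snd g G.t ≫ G.s)) : ∃ V : U'.Opens, pullback.fst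 g G.t ⁻¹ᵁ V = W (pullback.snd g G.t ≫ G.s) hh := by
    let fD := pullback.snd (pullback.snd g G.t ≫ G.s) G.t
    let p₁ := pullback.fst (pullback.snd g G.t ≫ G.s) G.t
    have hp₁ : (p₁ ≫ pullback.snd g G.t) ≫ G.s = fD ≫ G.t := by
      rw [Category.assoc]; exact pullback.condition
    let ab := pullback.lift (p₁ ≫ pullback.snd g G.t) fD hp₁ ≫ G.c
    let p₂ := pullback.lift (p₁ ≫ pullback.fst g G.t) ab (by
      rw [Category.assoc, pullback.condition, G.comp_t]; simp)
    have hp₂ : p₂ ≫ pullback.snd g G.t ≫ G.s = fD ≫ G.s := by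
      rw [pullback.lift_snd_assoc, G.comp_s]
    let z := pullback.lift (𝟙 (pullback g G.t)) (pullback.snd g G.t ≫ G.i) (by
      rw [Category.id_comp, Category.assoc, G.i_t])
    let σ := pullback.lift (𝟙 U') (g ≫ G.e) (by rw [Category.id_comp, Category.assoc, G.e_t, Category.comp_id])
    have hz₂ : z ≫ p₂ = pullback.fst g G.t ≫ σ := by
      apply pullback.hom_ext
      · simp [z, p₂, p₁, σ]
        exact Category.id_comp _
      · have : (pullback.snd g G.t ≫ G.t ≫ G.e) = pullback.fst g G.t ≫ g ≫ G.e := by
          rw [← pullback.condition_assoc]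
        simp only [σ, Category.assoc, pullback.lift_snd]
        rw [← this, ← G.comp_i (pullback.snd g G.t)]
        rw [show p₂ ≫ pullback.snd g G.t = ab from pullback.lift_snd _ _ _, ← Category.assoc]
        congr 1
        apply pullback.hom_ext <;> simp [z, p₁, fD] <;> exact Category.id_comp _
    -- transport of the largest open along an isomorphism
    have hiso : ∀ {X X' Y : Scheme.{u}} (e : X' ≅ X) (f : X ⟶ Y) (f' : X' ⟶ Y) (_ : e.hom ≫ f = f') (hf : Q f) (hf' : Q f'),
        W f' hf' = e.hom ⁻¹ᵁ W f hf := by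
      intro X X' Y e f f' he hf hf'
      refine le_antisymm ?_ (hWmax f' hf' _ ?_)
      · have h1 : P ((e.inv ⁻¹ᵁ W f' hf').ι ≫ f) := by
          have h2 : (e.inv ∣_ W f' hf') ≫ (W f' hf').ι ≫ f' = (e.inv ⁻¹ᵁ W f' hf').ι ≫ f := by
            rw [← Category.assoc, morphismRestrict_ι, Category.assoc, show e.inv ≫ f' = f from (Iso.inv_comp_eq e).2 he.symm]
          rw [← h2]
          exact (P.cancel_left_of_respectsIso _ _).2 (hWP f' hf')
        intro x hx
        have := hWmax f hf _ h1 (show e.hom x ∈ e.inv ⁻¹ᵁ W f' hf' by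
          show e.inv (e.hom x) ∈ W f' hf'
          rw [← Scheme.Hom.comp_apply, Iso.hom_inv_id]; exact hx)
        exact this
      · have h2 : (e.hom ∣_ W f hf) ≫ (W f hf).ι ≫ f = (e.hom ⁻¹ᵁ W f hf).ι ≫ f' := by
          rw [← Category.assoc, morphismRestrict_ι, Category.assoc, he]
        rw [← h2]
        exact (P.cancel_left_of_respectsIso _ _).2 (hWP f hf)
    have hQD : Q fD := Q.pullback_snd _ _ hh
    -- `D` is also the pullback along the source
    let q := pullback.lift p₂ fD ((Category.assoc _ _ _).symm.trans (by rw [Category.assoc]; exact hp₂))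
    haveI : IsIso q := by
      let a' := pullback.fst (pullback.snd g G.t ≫ G.s) G.s ≫ pullback.snd g G.t
      let b' := pullback.snd (pullback.snd g G.t ≫ G.s) G.s
      have ha' : a' ≫ G.s = (b' ≫ G.i) ≫ G.t := by
        rw [Category.assoc, Category.assoc, G.i_t]; exact pullback.condition
      let a := pullback.lift a' (b' ≫ G.i) ha' ≫ G.c
      let r : pullback (pullback.snd g G.t ≫ G.s) G.s ⟶ pullback (pullback.snd g G.t ≫ G.s) G.t :=
        pullback.lift (pullback.lift (pullback.fst _ _ ≫ pullback.fst g G.t) a (by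
          rw [G.comp_t, Category.assoc, Category.assoc, pullback.condition])) b' (by
          rw [pullback.lift_snd_assoc, G.comp_s, Category.assoc, G.i_s])
      refine ⟨r, ?_, ?_⟩
      · apply pullback.hom_ext
        · apply pullback.hom_ext
          · simp [q, r, p₂, p₁]
          · simp only [Category.assoc, Category.id_comp, r, pullback.lift_fst, pullback.lift_snd]
            change q ≫ a = p₁ ≫ pullback.snd g G.t
            have e := G.assoc (p₁ ≫ pullback.snd g G.t) fD (fD ≫ G.i) hp₁ (by rw [Category.assoc, G.i_t])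
            refine Eq.trans ?_ (e.trans ?_)
            · rw [← Category.assoc]
              congr 1
              apply pullback.hom_ext <;> simp [q, a', b', p₂, ab]
            · conv_rhs => rw [← G.comp_e (p₁ ≫ pullback.snd g G.t)]
              congr 1
              apply pullback.hom_ext
              · simp
              · simp only [pullback.lift_snd, G.comp_i]
                simp only [← Category.assoc, hp₁]
        · simp [q, r, fD, b']
      · apply pullback.hom_ext
        · apply pullback.hom_ext
          · simp [q, r, p₂, p₁]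
          · simp only [Category.assoc, Category.id_comp, q, pullback.lift_fst]
            rw [show p₂ ≫ pullback.snd g G.t = ab from pullback.lift_snd _ _ _]
            have e := G.assoc a' (b' ≫ G.i) b' ha' (by rw [Category.assoc, G.i_s])
            refine Eq.trans ?_ (e.trans ?_)
            · simp only [ab, ← Category.assoc]
              congr 1
              apply pullback.hom_ext <;> simp [r, p₁, fD, a]
            · change _ = a'
              conv_rhs => rw [← G.comp_e a']
              congr 1
              apply pullback.hom_ext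
              · simp
              · have : b' ≫ G.s = a' ≫ G.s := by rw [Category.assoc]; exact pullback.condition.symm
                simp only [pullback.lift_snd, G.i_comp, reassoc_of% this]
        · simp [q, r, fD, b']
    have hQ' : Q (pullback.snd (pullback.snd g G.t ≫ G.s) G.s) := Q.pullback_snd _ _ hh
    have h1 : p₁ ⁻¹ᵁ W _ hh = W fD hQD := hWbc _ hh G.t ht hQD
    have h2 : p₂ ⁻¹ᵁ W _ hh = W fD hQD := by
      rw [hiso (asIso q) _ fD (pullback.lift_snd _ _ _) hQ' hQD, ← hWbc _ hh G.s hs hQ', ← Scheme.Hom.comp_preimage,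
        show (asIso q).hom ≫ pullback.fst _ _ = p₂ from pullback.lift_fst _ _ _]
    refine ⟨σ ⁻¹ᵁ W _ hh, ?_⟩
    rw [← Scheme.Hom.comp_preimage, ← hz₂, Scheme.Hom.comp_preimage, h2, ← h1, ← Scheme.Hom.comp_preimage,
      pullback.lift_fst, Scheme.Hom.id_preimage]

end Groth.Agent.GrpdSep
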