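import Groth.Agent.GrpdSep.Field
import Groth.Agent.FieldExtLD.Scheme
import Groth.Agent.TopDimLib.Basic

/-!
Dimension of groupoids over a field.
-/

set_option autoImplicit false
set_option linter.style.haveILetI false
set_option backward.isDefEq.respectTransparency false

universe u

open CategoryTheory CategoryTheory.Limits AlgebraicGeometry Grpd

namespace Groth.Agent.GrpdSep

open Groth.Agent.FieldExtLD Groth.Agent.DimTheory

variable {S : Scheme.{u}} (G : GroupoidScheme S) {k : Type u} [Field k]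

/-- Right translation by an arrow `β : Spec K → R`, on the fibres of `s`. -/
theorem exists_translateIso {T V : Scheme.{u}} (h : G.U ⟶ V) [Mono h] (β : T ⟶ G.R) :
    ∃ ψ : pullback (G.s ≫ h) (β ≫ G.t ≫ h) ≅ pullback (G.s ≫ h) (β ≫ G.s ≫ h),
      ψ.hom ≫ pullback.snd _ _ = pullback.snd _ _ ∧ ∀ q : T ⟶ pullback (G.s ≫ h) (β ≫ G.t ≫ h), q ≫ pullback.fst _ _ = (β ≫ G.t) ≫ G.e →
        q ≫ pullback.snd _ _ = 𝟙 T → (q ≫ ψ.hom) ≫ pullback.fst _ _ = β := by
  let a₂ := pullback.fst (G.s ≫ h) (β ≫ G.t ≫ h)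
  let p₂ := pullback.snd (G.s ≫ h) (β ≫ G.t ≫ h)
  let a₁ := pullback.fst (G.s ≫ h) (β ≫ G.s ≫ h)
  let p₁ := pullback.snd (G.s ≫ h) (β ≫ G.s ≫ h)
  have h₂ : a₂ ≫ G.s = (p₂ ≫ β) ≫ G.t := by
    rw [← cancel_mono h]; simpa using pullback.condition (f := G.s ≫ h) (g := β ≫ G.t ≫ h)
  have h₁ : a₁ ≫ G.s = ((p₁ ≫ β) ≫ G.i) ≫ G.t := by
    rw [Category.assoc (p₁ ≫ β), G.i_t, ← cancel_mono h]
    simpa using pullback.condition (f := G.s ≫ h) (g := β ≫ G.s ≫ h)
  let φ : pullback (G.s ≫ h) (β ≫ G.t ≫ h) ⟶ pullback (G.s ≫ h) (β ≫ G.s ≫ h) :=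
    pullback.lift (mulPt G a₂ (p₂ ≫ β) h₂) p₂ (by simp [reassoc_of% (mulPt_s G h₂), p₂])
  let φ' : pullback (G.s ≫ h) (β ≫ G.s ≫ h) ⟶ pullback (G.s ≫ h) (β ≫ G.t ≫ h) :=
    pullback.lift (mulPt G a₁ ((p₁ ≫ β) ≫ G.i) h₁) p₁ (by simp [reassoc_of% (mulPt_s G h₁), reassoc_of% G.i_s, p₁])
  have hφa : φ ≫ a₁ = mulPt G a₂ (p₂ ≫ β) h₂ := pullback.lift_fst _ _ _
  have hφp : φ ≫ p₁ = p₂ := pullback.lift_snd _ _ _
  have hφa' : φ' ≫ a₂ = mulPt G a₁ ((p₁ ≫ β) ≫ G.i) h₁ := pullback.lift_fst _ _ _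
  have hφp' : φ' ≫ p₂ = p₁ := pullback.lift_snd _ _ _
  refine ⟨⟨φ, φ', ?_, ?_⟩, hφp, fun q hq₁ hq₂ => ?_⟩
  · refine pullback.hom_ext ?_ ?_
    · change (φ ≫ φ') ≫ a₂ = 𝟙 _ ≫ a₂
      rw [Category.assoc, hφa', Category.id_comp, mulPt_comp]
      exact (mulPt_congr G _ hφa (by simp [reassoc_of% hφp])).trans (cancel_right G h₂)
    · change (φ ≫ φ') ≫ p₂ = 𝟙 _ ≫ p₂
      rw [Category.assoc, hφp', hφp, Category.id_comp]
  · refine pullback.hom_ext ?_ ?_
    · change (φ' ≫ φ) ≫ a₁ = 𝟙 _ ≫ a₁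
      rw [Category.assoc, hφa, Category.id_comp, mulPt_comp]
      exact (mulPt_congr G _ hφa' (by simp [reassoc_of% hφp'])).trans (cancel_right' G h₁)
    · change (φ' ≫ φ) ≫ p₁ = 𝟙 _ ≫ p₁
      rw [Category.assoc, hφp, hφp', Category.id_comp]
  · change (q ≫ φ) ≫ a₁ = β
    rw [Category.assoc, hφa, mulPt_comp]
    refine (mulPt_congr G _ hq₁ (by rw [← Category.assoc, hq₂, Category.id_comp])).trans ?_
    rw [mulPt_def]
    conv_rhs => rw [← G.e_comp β]
    congr 1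

variable (eU : G.U ≅ Spec (CommRingCat.of k)) [LocallyOfFiniteType G.s]

/-- The local dimension is the same at every point. -/
theorem localDim_eq_localDim_e (r : G.R) :
    FlatMor.localDim G.R r = FlatMor.localDim G.R (G.e (eU.inv (IsLocalRing.closedPoint k))) := by
  haveI := subsingleton_U (G := G) eU
  let K := G.R.residueField r
  let β : Spec K ⟶ G.R := G.R.fromSpecResidueField r
  obtain ⟨φ₁, hφ₁⟩ := Spec.map_surjective (β ≫ G.s ≫ eU.hom)
  obtain ⟨φ₂, hφ₂⟩ := Spec.map_surjective (β ≫ G.t ≫ eU.hom)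
  obtain ⟨ψ, -, hψ⟩ := exists_translateIso G eU.hom β
  let q : Spec K ⟶ pullback (G.s ≫ eU.hom) (β ≫ G.t ≫ eU.hom) :=
    pullback.lift ((β ≫ G.t) ≫ G.e) (𝟙 _) (by simp [reassoc_of% G.e_s])
  let pt : Spec K := IsLocalRing.closedPoint K
  have L : ∀ (φ : CommRingCat.of k ⟶ K) (u : Spec K ⟶ Spec (CommRingCat.of k)), Spec.map φ = u →
      ∀ x : ↥(pullback (G.s ≫ eU.hom) u),
        FlatMor.localDim ↥(pullback (G.s ≫ eU.hom) u) x = FlatMor.localDim G.R (pullback.fst (G.s ≫ eU.hom) u x) := by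
    intro φ u hu
    subst hu
    letI : Algebra k K := φ.hom.toAlgebra
    exact localDim_pullback (K := K) (G.s ≫ eU.hom)
  have h1 := L φ₁ _ hφ₁ ((q ≫ ψ.hom) pt)
  rw [← Scheme.Hom.comp_apply, hψ q (pullback.lift_fst _ _ _) (pullback.lift_snd _ _ _)] at h1
  have h2 := L φ₂ _ hφ₂ (q pt)
  rw [← Scheme.Hom.comp_apply, pullback.lift_fst] at h2
  have h3 : FlatMor.localDim _ ((q ≫ ψ.hom) pt) = FlatMor.localDim _ (q pt) :=
    localDim_of_isOpenEmbedding ψ.hom.isOpenEmbedding (q pt)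
  have hr : β pt = r := G.R.fromSpecResidueField_apply r _
  rw [hr] at h1
  have he : ((β ≫ G.t) ≫ G.e) pt = G.e (eU.inv (IsLocalRing.closedPoint k)) := congrArg G.e (Subsingleton.elim _ _)
  rw [he] at h2
  rw [← h1, h3, h2]

include eU in
theorem localDim_eq_dim (r : G.R) : FlatMor.localDim G.R r = topologicalKrullDim G.R := by
  refine le_antisymm (TopDimLib.localDim_le_dim r) (TopDimLib.dim_le fun p => ?_)
  obtain ⟨x, hx⟩ := p.head.isIrreducible.nonempty
  rw [localDim_eq_localDim_e G eU r, ← localDim_eq_localDim_e G eU x]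
  exact TopDimLib.length_le_localDim p hx

include eU in
theorem dim_irreducibleComponent (Z : Set G.R) (hZ : Z ∈ irreducibleComponents G.R) :
    topologicalKrullDim Z = topologicalKrullDim G.R := by
  obtain ⟨η, hη⟩ := QuasiSober.sober hZ.1 (isClosed_of_mem_irreducibleComponents Z hZ)
  have hmax : ∀ z, η ≤ z → z ≤ η := fun z (hz : z ⤳ η) => by
    have : Z ⊆ closure {z} := hη.def ▸ closure_minimal (Set.singleton_subset_iff.2 (specializes_iff_mem_closure.1 hz)) isClosed_closure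
    exact specializes_iff_mem_closure.2 (hη.def.symm ▸ hZ.2 isIrreducible_singleton.closure this (subset_closure rfl))
  rw [← hη.def, topologicalKrullDim_closure, ← localDim_eq_dim G eU η, localDim_eq (G.s ≫ eU.hom),
    Order.coheight_eq_zero.2 hmax, add_zero]

include eU in
theorem ringKrullDim_stalk (r : G.R) (hr : IsClosed ({r} : Set G.R)) :
    ringKrullDim (G.R.presheaf.stalk r) = topologicalKrullDim G.R := by
  have h0 : Order.height r = 0 := Order.height_eq_zero.2 fun y hy => by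
    have : y ∈ ({r} : Set G.R) := hr.closure_eq ▸ (specializes_iff_mem_closure.1 (show r ⤳ y from hy))
    exact (show y = r from this).ge
  rw [← localDim_eq_dim G eU r, localDim_eq (G.s ≫ eU.hom), h0, zero_add,
    AlgebraicGeometry.ringKrullDim_stalk_eq_coheight]

end Groth.Agent.GrpdSep
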