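import Groth.Prelude.Def_Grpd
import Groth.Agent.AlgSpImage.Image

/-!
The scheme theoretic image of a morphism of groupoid schemes over a field is a groupoid scheme.
-/

set_option autoImplicit false
set_option linter.style.haveILetI false
set_option backward.isDefEq.respectTransparency false

universe u

open CategoryTheory CategoryTheory.Limits AlgebraicGeometry

namespace Groth.Agent.GrpdSep.ImageGrpd

variable {S : Scheme.{u}} {G₁ G₂ : Grpd.GroupoidScheme S}

theorem cancel_left (G : Grpd.GroupoidScheme S) {T : Scheme.{u}} (x y y' : T ⟶ G.R) (h : x ≫ G.s = y ≫ G.t)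
    (h' : x ≫ G.s = y' ≫ G.t) (e : pullback.lift x y h ≫ G.c = pullback.lift x y' h' ≫ G.c) : y = y' := by
  have hx : (x ≫ G.i) ≫ G.s = x ≫ G.t := by rw [Category.assoc, G.i_s]
  have key : ∀ (z : T ⟶ G.R) (hz : x ≫ G.s = z ≫ G.t),
      pullback.lift (x ≫ G.i) (pullback.lift x z hz ≫ G.c) (hx.trans (G.comp_t _ _ _).symm) ≫ G.c = z := fun z hz => by
    rw [← G.assoc (x ≫ G.i) x z hx hz]
    refine Eq.trans ?_ (G.e_comp z)
    congr 1
    apply pullback.hom_ext
    · rw [pullback.lift_fst, pullback.lift_fst, G.i_comp, ← Category.assoc x, ← Category.assoc z, hz]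
    · rw [pullback.lift_snd, pullback.lift_snd]
  refine (key y h).symm.trans (Eq.trans ?_ (key y' h'))
  congr 1
  exact pullback.hom_ext (by simp) (by simp [e])

variable (f : Grpd.GroupoidScheme.Hom G₁ G₂)

theorem comm_e : G₁.e ≫ f.fR = f.fU ≫ G₂.e := by
  have hs : (G₁.e ≫ f.fR) ≫ G₂.s = f.fU := by rw [Category.assoc, f.comm_s, reassoc_of% G₁.e_s]
  have ht : (G₁.e ≫ f.fR) ≫ G₂.t = f.fU := by rw [Category.assoc, f.comm_t, reassoc_of% G₁.e_t]
  have h0 : G₁.e ≫ G₁.s = G₁.e ≫ G₁.t := by rw [G₁.e_s, G₁.e_t]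
  have h := f.comm_c G₁.e G₁.e h0
  rw [show pullback.lift G₁.e G₁.e h0 ≫ G₁.c = G₁.e by
    refine Eq.trans ?_ (G₁.comp_e G₁.e)
    congr 1
    exact pullback.hom_ext (by simp) (by simp [reassoc_of% G₁.e_s])] at h
  refine cancel_left G₂ (G₁.e ≫ f.fR) _ _ (hs.trans ht.symm) (by rw [hs, Category.assoc, G₂.e_t, Category.comp_id]) ?_
  refine h.symm.trans (Eq.trans (G₂.comp_e _).symm ?_)
  congr 1
  exact pullback.hom_ext (by simp) (by simp only [pullback.lift_snd, reassoc_of% hs]; rw [← hs]; simp)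

theorem comm_i : G₁.i ≫ f.fR = f.fR ≫ G₂.i := by
  have h0 : 𝟙 G₁.R ≫ G₁.s = G₁.i ≫ G₁.t := by rw [Category.id_comp, G₁.i_t]
  have h := f.comm_c (𝟙 G₁.R) G₁.i h0
  rw [show pullback.lift (𝟙 G₁.R) G₁.i h0 ≫ G₁.c = G₁.t ≫ G₁.e by
    refine Eq.trans ?_ ((G₁.comp_i (𝟙 G₁.R)).trans (Category.id_comp _))
    congr 1] at h
  rw [Category.assoc, comm_e, ← reassoc_of% f.comm_t, ← G₂.comp_i f.fR] at h
  refine cancel_left G₂ f.fR _ _ (by rw [Category.assoc, f.comm_t, reassoc_of% G₁.i_t, f.comm_s])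
    (by rw [Category.assoc, G₂.i_t]) (Eq.trans ?_ h.symm)
  congr 1

/-- Factoring through a closed immersion may be tested on a schematically dominant cover. -/
theorem exists_factor {X Y Z W : Scheme.{u}} (ι : Z ⟶ W) [IsClosedImmersion ι] (d : X ⟶ Y)
    [IsSchemeTheoreticallyDominant d] (g : Y ⟶ W) (m : X ⟶ Z) (h : m ≫ ι = d ≫ g) : ∃ l : Y ⟶ Z, l ≫ ι = g := by
  refine ⟨IsClosedImmersion.lift ι g ?_, IsClosedImmersion.lift_fac _ _ _⟩
  rw [← Scheme.IdealSheafData.map_bot g, ← d.ker_eq_bot, ← Scheme.Hom.ker_comp, ← h]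
  exact m.le_ker_comp ι

theorem exists_image [IsIso f.fU] [QuasiCompact f.fR] [Subsingleton G₂.U] [IsIntegral G₂.U] :
    ∃ (G' : Grpd.GroupoidScheme S) (ψ : Grpd.GroupoidScheme.Hom G' G₂) (_ : IsIso ψ.fU) (π : G₁.R ⟶ G'.R),
      IsClosedImmersion ψ.fR ∧ π ≫ ψ.fR = f.fR ∧ ψ.fR.ker = f.fR.ker := by
  let a := f.fR
  let ι := a.imageι
  let π := a.toImage
  have hπ : π ≫ ι = a := a.toImage_imageι
  haveI : IsSchemeTheoreticallyDominant π := ModPairLib.std_toImage a
  obtain ⟨e', he'⟩ : ∃ e', e' ≫ ι = G₂.e :=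
    ⟨inv f.fU ≫ G₁.e ≫ π, by rw [Category.assoc, Category.assoc, hπ, comm_e, IsIso.inv_hom_id_assoc]⟩
  obtain ⟨i', hi'⟩ := exists_factor ι π (ι ≫ G₂.i) (G₁.i ≫ π) (by rw [Category.assoc, hπ, comm_i, reassoc_of% hπ])
  have hw : (pullback.fst (ι ≫ G₂.s) (ι ≫ G₂.t) ≫ ι) ≫ G₂.s = (pullback.snd _ _ ≫ ι) ≫ G₂.t := by
    simpa [Category.assoc] using (pullback.condition (f := ι ≫ G₂.s) (g := ι ≫ G₂.t))
  obtain ⟨c', hc'⟩ : ∃ c', c' ≫ ι = pullback.lift _ _ hw ≫ G₂.c := by
    let d₁ : pullback (a ≫ G₂.s) (ι ≫ G₂.t) ⟶ pullback (ι ≫ G₂.s) (ι ≫ G₂.t) :=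
      pullback.lift (pullback.fst _ _ ≫ π) (pullback.snd _ _) (by
        rw [Category.assoc, reassoc_of% hπ, pullback.condition])
    haveI : IsSchemeTheoreticallyDominant d₁ := by
      haveI : Flat (pullback.fst (ι ≫ G₂.s) (ι ≫ G₂.t)) := MorphismProperty.pullback_fst _ _ inferInstance
      refine IsSchemeTheoreticallyDominant.of_isPullback (f := π) (g := pullback.fst (ι ≫ G₂.s) (ι ≫ G₂.t))
        (IsPullback.of_right ?_ (pullback.lift_fst _ _ _) (IsPullback.of_hasPullback (ι ≫ G₂.s) (ι ≫ G₂.t)).flip |>.flip)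
      rw [pullback.lift_snd, reassoc_of% hπ]
      exact (IsPullback.of_hasPullback (a ≫ G₂.s) (ι ≫ G₂.t)).flip
    let d₂ : pullback (a ≫ G₂.s) (a ≫ G₂.t) ⟶ pullback (a ≫ G₂.s) (ι ≫ G₂.t) :=
      pullback.lift (pullback.fst _ _) (pullback.snd _ _ ≫ π) (by
        rw [Category.assoc, reassoc_of% hπ, pullback.condition])
    haveI : IsSchemeTheoreticallyDominant d₂ := by
      haveI : Flat (pullback.snd (a ≫ G₂.s) (ι ≫ G₂.t)) := MorphismProperty.pullback_snd _ _ inferInstance
      refine IsSchemeTheoreticallyDominant.of_isPullback (f := π) (g := pullback.snd (a ≫ G₂.s) (ι ≫ G₂.t))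
        (IsPullback.of_right ?_ (pullback.lift_snd _ _ _) (IsPullback.of_hasPullback (a ≫ G₂.s) (ι ≫ G₂.t)) |>.flip)
      rw [pullback.lift_fst, reassoc_of% hπ]
      exact IsPullback.of_hasPullback (a ≫ G₂.s) (a ≫ G₂.t)
    let p := pullback.fst (a ≫ G₂.s) (a ≫ G₂.t)
    let q := pullback.snd (a ≫ G₂.s) (a ≫ G₂.t)
    have hpq : p ≫ G₁.s = q ≫ G₁.t := by
      rw [← cancel_mono f.fU, Category.assoc, Category.assoc, ← f.comm_s, ← f.comm_t]
      exact pullback.condition
    obtain ⟨m, hm⟩ := exists_factor ι d₂ (d₁ ≫ pullback.lift _ _ hw ≫ G₂.c)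
      ((pullback.lift p q hpq ≫ G₁.c) ≫ π) (by
        rw [Category.assoc, hπ, f.comm_c, ← Category.assoc d₁, ← Category.assoc d₂]
        congr 1
        apply pullback.hom_ext <;> simp [d₁, d₂, p, q, hπ, a])
    exact exists_factor ι d₁ _ m hm
  have hcc : ∀ {T : Scheme.{u}} (α β : T ⟶ a.image) (h : α ≫ ι ≫ G₂.s = β ≫ ι ≫ G₂.t),
      (pullback.lift α β h ≫ c') ≫ ι = pullback.lift (α ≫ ι) (β ≫ ι) (by simpa [Category.assoc] using h) ≫ G₂.c := by
    intro T α β h
    rw [Category.assoc, hc', ← Category.assoc]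
    congr 1
    apply pullback.hom_ext <;> simp
  let G' : Grpd.GroupoidScheme S :=
    { U := G₂.U, R := a.image, pU := G₂.pU, pR := ι ≫ G₂.pR, s := ι ≫ G₂.s, t := ι ≫ G₂.t, e := e', i := i', c := c'
      s_over := by rw [Category.assoc, G₂.s_over]
      t_over := by rw [Category.assoc, G₂.t_over]
      comp_s := fun α β h => by rw [← Category.assoc, hcc, G₂.comp_s, Category.assoc]
      comp_t := fun α β h => by rw [← Category.assoc, hcc, G₂.comp_t, Category.assoc]
      assoc := fun α β γ h₁ h₂ => by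
        rw [← cancel_mono ι, hcc]
        refine Eq.trans ?_ ((G₂.assoc (α ≫ ι) (β ≫ ι) (γ ≫ ι) (by simpa [Category.assoc] using h₁)
          (by simpa [Category.assoc] using h₂)).trans (Eq.trans ?_ (hcc _ _ _).symm))
        · congr 1
          apply pullback.hom_ext
          · rw [pullback.lift_fst, pullback.lift_fst, hcc]
          · rw [pullback.lift_snd, pullback.lift_snd]
        · congr 1
          apply pullback.hom_ext
          · rw [pullback.lift_fst, pullback.lift_fst]
          · rw [pullback.lift_snd, pullback.lift_snd, hcc]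
      e_s := by rw [reassoc_of% he', G₂.e_s]
      e_t := by rw [reassoc_of% he', G₂.e_t]
      comp_e := fun α => by
        rw [← cancel_mono ι, hcc]
        simp only [Category.assoc, he']
        simpa [Category.assoc] using G₂.comp_e (α ≫ ι)
      e_comp := fun α => by
        rw [← cancel_mono ι, hcc]
        simp only [Category.assoc, he']
        simpa [Category.assoc] using G₂.e_comp (α ≫ ι)
      i_s := by rw [reassoc_of% hi', G₂.i_s]
      i_t := by rw [reassoc_of% hi', G₂.i_t]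
      comp_i := fun α => by
        rw [← cancel_mono ι, hcc]
        simp only [Category.assoc, he', hi']
        simpa [Category.assoc] using G₂.comp_i (α ≫ ι)
      i_comp := fun α => by
        rw [← cancel_mono ι, hcc]
        simp only [Category.assoc, he', hi']
        simpa [Category.assoc] using G₂.i_comp (α ≫ ι) }
  let ψ : Grpd.GroupoidScheme.Hom G' G₂ :=
    { fU := 𝟙 _, fR := ι, fU_over := Category.id_comp _, comm_s := (Category.comp_id _).symm,
      comm_t := (Category.comp_id _).symm, comm_c := fun α β h => hcc α β h }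
  exact ⟨G', ψ, (inferInstance : IsIso (𝟙 G₂.U)), π, (inferInstance : IsClosedImmersion ι), hπ,
    Scheme.IdealSheafData.ker_subschemeι _⟩

end Groth.Agent.GrpdSep.ImageGrpd

namespace Groth.Agent.GrpdSep.ImageGrpd

variable {S : Scheme.{u}}

theorem lift_comp_lift {T X Y Z : Scheme.{u}} (p : X ⟶ Z) (q : Y ⟶ Z) {a : T ⟶ X} {b : T ⟶ Y} (h : a ≫ p = b ≫ q) :
    pullback.lift a b h ≫ pullback.fst p q = a ∧ pullback.lift a b h ≫ pullback.snd p q = b :=
  ⟨pullback.lift_fst _ _ _, pullback.lift_snd _ _ _⟩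

/-- The groupoid of all pairs. -/
noncomputable def pairGrpd {U : Scheme.{u}} (p : U ⟶ S) : Grpd.GroupoidScheme S where
  U := U
  R := pullback p p
  pU := p
  pR := pullback.snd p p ≫ p
  s := pullback.snd p p
  t := pullback.fst p p
  e := pullback.lift (𝟙 U) (𝟙 U) rfl
  i := pullback.lift (pullback.snd p p) (pullback.fst p p) pullback.condition.symm
  c := pullback.lift (pullback.fst _ _ ≫ pullback.fst p p) (pullback.snd _ _ ≫ pullback.snd p p) (by
    simp only [Category.assoc]
    rw [pullback.condition, ← Category.assoc, pullback.condition, Category.assoc, pullback.condition])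
  s_over := rfl
  t_over := pullback.condition
  comp_s α β h := by simp
  comp_t α β h := by simp
  assoc α β γ h₁ h₂ := by apply pullback.hom_ext <;> simp
  e_s := pullback.lift_snd _ _ _
  e_t := pullback.lift_fst _ _ _
  comp_e α := by apply pullback.hom_ext <;> simp
  e_comp α := by apply pullback.hom_ext <;> simp
  i_s := pullback.lift_snd _ _ _
  i_t := pullback.lift_fst _ _ _
  comp_i α := by apply pullback.hom_ext <;> simp
  i_comp α := by apply pullback.hom_ext <;> simp

/-- The map to the groupoid of pairs. -/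
noncomputable def toPair (G : Grpd.GroupoidScheme S) : Grpd.GroupoidScheme.Hom G (pairGrpd G.pU) where
  fU := 𝟙 G.U
  fR := G.j
  fU_over := Category.id_comp _
  comm_s := (pullback.lift_snd _ _ _).trans (Category.comp_id _).symm
  comm_t := (pullback.lift_fst _ _ _).trans (Category.comp_id _).symm
  comm_c α β h := by
    show _ = pullback.lift _ _ _ ≫ pullback.lift _ _ _
    apply pullback.hom_ext
    · simp only [Category.assoc, Grpd.GroupoidScheme.j, pullback.lift_fst, pullback.lift_fst_assoc]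
      simpa [Category.assoc, pairGrpd] using G.comp_t α β h
    · simp only [Category.assoc, Grpd.GroupoidScheme.j, pullback.lift_snd, pullback.lift_snd_assoc]
      simpa [Category.assoc, pairGrpd] using G.comp_s α β h

end Groth.Agent.GrpdSep.ImageGrpd
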