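import Groth.Agent.GrpdSep.Field
import Groth.Agent.GrpdSep.Restrict
import Groth.Agent.GrpSch.Component

/-!
Irreducible components of groupoids over a field.
-/

set_option autoImplicit false
set_option linter.style.haveILetI false
set_option backward.isDefEq.respectTransparency false

universe u

open CategoryTheory CategoryTheory.Limits AlgebraicGeometry Grpd

namespace Groth.Agent.GrpdSep

/-- An irreducible closed subscheme through a point and a given rational point. -/
theorem exists_irred_through {K : Type u} [Field K] {X : Scheme.{u}} (q : Spec (CommRingCat.of K) ⟶ X) (a : X)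
    (ha : a ⤳ q (IsLocalRing.closedPoint K)) :
    ∃ (Z : Scheme.{u}) (i : Z ⟶ X) (s : Spec (CommRingCat.of K) ⟶ Z),
      IrreducibleSpace Z ∧ s ≫ i = q ∧ a ∈ Set.range i := by
  let I := Scheme.IdealSheafData.vanishingIdeal (⟨closure {a}, isClosed_closure⟩ : TopologicalSpace.Closeds X)
  have hr : Set.range I.subschemeι = closure {a} := by
    rw [Scheme.IdealSheafData.range_subschemeι, Scheme.IdealSheafData.coe_support_vanishingIdeal]
    rfl
  obtain ⟨s, hs⟩ := GrpSch.exists_factor_of_mem_range I.subschemeι q (by rw [hr]; exact ha.mem_closure)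
  refine ⟨I.subscheme, I.subschemeι, s, ?_, hs, hr.ge (subset_closure rfl)⟩
  have : IrreducibleSpace ↥(Set.range I.subschemeι) := by
    rw [hr]; exact Subtype.irreducibleSpace isIrreducible_singleton.closure
  exact I.subschemeι.isClosedEmbedding.isEmbedding.toHomeomorph.irreducibleSpace_iff.2 this

variable {S : Scheme.{u}} (G : GroupoidScheme S) {k : Type u} [Field k] (eU : G.U ≅ Spec (CommRingCat.of k))

include eU in
theorem exists_generalization_aux {K : Type u} [Field K] [IsAlgClosed K] (β : Spec (CommRingCat.of K) ⟶ G.R)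
    (r a b : G.R) (hβ : β (IsLocalRing.closedPoint K) = r) (ha : a ⤳ r) (hb : b ⤳ r) : ∃ d, d ⤳ a ∧ d ⤳ b := by
  let h := eU.hom
  let ps := pullback.fst (G.s ≫ h) (β ≫ G.s ≫ h)
  let pt := pullback.fst (G.t ≫ h) (β ≫ G.t ≫ h)
  let qs : Spec (CommRingCat.of K) ⟶ pullback (G.s ≫ h) (β ≫ G.s ≫ h) := pullback.lift β (𝟙 _) (by simp)
  let qt : Spec (CommRingCat.of K) ⟶ pullback (G.t ≫ h) (β ≫ G.t ≫ h) := pullback.lift β (𝟙 _) (by simp)
  have hqs : ps (qs (IsLocalRing.closedPoint K)) = r := by
    rw [← Scheme.Hom.comp_apply]; simp only [qs, ps, pullback.lift_fst]; exact hβ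
  have hqt : pt (qt (IsLocalRing.closedPoint K)) = r := by
    rw [← Scheme.Hom.comp_apply]; simp only [qt, pt, pullback.lift_fst]; exact hβ
  haveI : Flat (β ≫ G.s ≫ h) := inferInstance
  haveI : Flat (β ≫ G.t ≫ h) := inferInstance
  haveI : Flat ps := inferInstanceAs (Flat (pullback.fst (G.s ≫ h) (β ≫ G.s ≫ h)))
  haveI : Flat pt := inferInstanceAs (Flat (pullback.fst (G.t ≫ h) (β ≫ G.t ≫ h)))
  rw [← hqs] at ha
  rw [← hqt] at hb
  obtain ⟨a', ha', rfl⟩ := Flat.generalizingMap ps ha
  obtain ⟨b', hb', rfl⟩ := Flat.generalizingMap pt hb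
  obtain ⟨Za, ia, sa, _, hsa, ⟨za, rfl⟩⟩ := exists_irred_through qs a' ha'
  obtain ⟨Zb, ib, sb, _, hsb, ⟨zb, rfl⟩⟩ := exists_irred_through qt b' hb'
  let fa : Za ⟶ Spec (CommRingCat.of K) := ia ≫ pullback.snd _ _
  let fb : Zb ⟶ Spec (CommRingCat.of K) := ib ≫ pullback.snd _ _
  have hsa' : sa ≫ fa = 𝟙 _ := by simp only [fa]; rw [← Category.assoc, hsa]; exact pullback.lift_snd _ _ _
  have hsb' : sb ≫ fb = 𝟙 _ := by simp only [fb]; rw [← Category.assoc, hsb]; exact pullback.lift_snd _ _ _
  have := GrpSch.Irred.geometricallyIrreducible_of_isAlgClosed fa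
  haveI : IrreducibleSpace ↥(pullback fa fb) := inferInstance
  let wA := pullback.fst fa fb
  let wB := pullback.snd fa fb
  let A : pullback fa fb ⟶ G.R := wA ≫ ia ≫ ps
  let B : pullback fa fb ⟶ G.R := wB ≫ ib ≫ pt
  let p : pullback fa fb ⟶ G.R := (wA ≫ fa) ≫ β
  have hA : A ≫ G.s = (p ≫ G.i) ≫ G.t := by
    rw [Category.assoc p, G.i_t, ← cancel_mono h]
    simp [A, p, ps, fa, pullback.condition (f := G.s ≫ h) (g := β ≫ G.s ≫ h)]
  have hB : p ≫ G.t = B ≫ G.t := by
    rw [← cancel_mono h]
    simp only [p, wA]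
    rw [pullback.condition]
    simp [B, pt, fb, wB, pullback.condition (f := G.t ≫ h) (g := β ≫ G.t ≫ h)]
  let F := mulPt G (mulPt G A (p ≫ G.i) hA) B (by rw [mulPt_s, Category.assoc, G.i_s, hB])
  let la : Za ⟶ pullback fa fb := pullback.lift (𝟙 Za) (fa ≫ sb) (by rw [Category.id_comp, Category.assoc, hsb', Category.comp_id])
  let lb : Zb ⟶ pullback fa fb := pullback.lift (fb ≫ sa) (𝟙 Zb) (by rw [Category.id_comp, Category.assoc, hsa', Category.comp_id])
  have e1 : la ≫ F = ia ≫ ps := by
    simp only [F, mulPt_comp]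
    have h1 : la ≫ A = ia ≫ ps := by
      simp only [la, A, wA, pullback.lift_fst_assoc]; exact Category.id_comp _
    have h2 : la ≫ p = fa ≫ β := by
      simp only [la, p, wA, Category.assoc, pullback.lift_fst_assoc]; exact Category.id_comp _
    have h3 : la ≫ B = fa ≫ β := by
      simp only [la, B, wB, pullback.lift_snd_assoc, Category.assoc]
      rw [reassoc_of% hsb]
      simp [qt, pt]
    refine (mulPt_congr G _ (mulPt_congr G _ h1 (by rw [← Category.assoc, h2])) h3).trans ?_
    exact cancel_right' G (by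
      have := congrArg (la ≫ ·) hA
      simpa [reassoc_of% h1, reassoc_of% h2, ← Category.assoc, h1, h2] using this)
  have e2 : lb ≫ F = ib ≫ pt := by
    simp only [F, mulPt_comp]
    have h1 : lb ≫ A = fb ≫ β := by
      simp only [lb, A, wA, pullback.lift_fst_assoc, Category.assoc]
      rw [reassoc_of% hsa]
      simp [qs, ps]
    have h2 : lb ≫ p = fb ≫ β := by
      simp only [lb, p, wA, pullback.lift_fst_assoc, Category.assoc]
      rw [reassoc_of% hsa']
    have h3 : lb ≫ B = ib ≫ pt := by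
      simp only [lb, B, wB, pullback.lift_snd_assoc]; exact Category.id_comp _
    refine (mulPt_congr G _ (mulPt_congr G _ h1 (by rw [← Category.assoc, h2])) h3).trans ?_
    refine (mulPt_congr G _ (mulPt_inv_right G (fb ≫ β)) rfl).trans ?_
    have ht : (fb ≫ β) ≫ G.t = (ib ≫ pt) ≫ G.t := by
      rw [← h2, ← h3, Category.assoc lb, Category.assoc lb, hB]
    exact (mulPt_congr G _ (by rw [ht]) rfl).trans (mulPt_unit_left G (ib ≫ pt))
  have hd := ((IrreducibleSpace.isIrreducible_univ ↥(pullback fa fb)).image _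
    F.continuous.continuousOn).closure.isGenericPoint_genericPoint isClosed_closure
  refine ⟨_, hd.specializes (subset_closure ⟨la za, trivial, ?_⟩), hd.specializes (subset_closure ⟨lb zb, trivial, ?_⟩)⟩
  · rw [← Scheme.Hom.comp_apply, e1]; rfl
  · rw [← Scheme.Hom.comp_apply, e2]; rfl

include eU in
/-- Two generalizations of a point have a common generalization. -/
theorem exists_generalization (r a b : G.R) (ha : a ⤳ r) (hb : b ⤳ r) : ∃ d, d ⤳ a ∧ d ⤳ b :=
  exists_generalization_aux G eU
    (Spec.map (CommRingCat.ofHom (algebraMap (G.R.residueField r) (AlgebraicClosure (G.R.residueField r)))) ≫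
      G.R.fromSpecResidueField r) r a b
    (by rw [Scheme.Hom.comp_apply]; exact G.R.fromSpecResidueField_apply r _) ha hb

include eU in
theorem subsingleton_minimalPrimes (x : G.R) : (minimalPrimes (G.R.presheaf.stalk x)).Subsingleton := by
  intro p hp q hq
  let st := G.R.fromSpecStalk x
  let P : PrimeSpectrum (G.R.presheaf.stalk x) := ⟨p, hp.1.1⟩
  let Q : PrimeSpectrum (G.R.presheaf.stalk x) := ⟨q, hq.1.1⟩
  have hr : Set.range st = {y | y ⤳ x} := Scheme.range_fromSpecStalk
  obtain ⟨d, hdP, hdQ⟩ := exists_generalization G eU x _ _ (hr.le ⟨P, rfl⟩) (hr.le ⟨Q, rfl⟩)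
  obtain ⟨R, rfl⟩ : d ∈ Set.range st := hr.ge (hdP.trans (hr.le ⟨P, rfl⟩))
  rw [st.isEmbedding.isInducing.specializes_iff] at hdP hdQ
  have hdP := (PrimeSpectrum.le_iff_specializes R P).2 hdP
  have hdQ := (PrimeSpectrum.le_iff_specializes R Q).2 hdQ
  exact (le_antisymm (hp.2 ⟨R.2, bot_le⟩ hdP) hdP).trans (le_antisymm hdQ (hq.2 ⟨R.2, bot_le⟩ hdQ))

include eU in
theorem eq_of_mem_irreducibleComponents {Z Z' : Set G.R} (hZ : Z ∈ irreducibleComponents G.R)
    (hZ' : Z' ∈ irreducibleComponents G.R) {x : G.R} (hx : x ∈ Z) (hx' : x ∈ Z') : Z = Z' := by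
  have ha := hZ.1.isGenericPoint_genericPoint (isClosed_of_mem_irreducibleComponents Z hZ)
  have hb := hZ'.1.isGenericPoint_genericPoint (isClosed_of_mem_irreducibleComponents Z' hZ')
  obtain ⟨d, hda, hdb⟩ := exists_generalization G eU x _ _ (ha.specializes hx) (hb.specializes hx')
  have h₁ : Z ⊆ closure {d} := fun y hy => (hda.trans (ha.specializes hy)).mem_closure
  have h₂ : Z' ⊆ closure {d} := fun y hy => (hdb.trans (hb.specializes hy)).mem_closure
  exact (h₁.antisymm (hZ.2 isIrreducible_singleton.closure h₁)).trans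
    (h₂.antisymm (hZ'.2 isIrreducible_singleton.closure h₂)).symm

end Groth.Agent.GrpdSep
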