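import Groth.Agent.GrpdSep.Basic
import Mathlib.AlgebraicGeometry.Sites.Fpqc
import Mathlib.AlgebraicGeometry.Sites.Etale
import Mathlib.AlgebraicGeometry.Morphisms.UniversallyOpen
import Mathlib.AlgebraicGeometry.Morphisms.Etale
import Mathlib.AlgebraicGeometry.Morphisms.Smooth

/-!
The largest open over which a local property holds is invariant.
-/

set_option autoImplicit false
set_option linter.style.haveILetI false
set_option backward.isDefEq.respectTransparency false

universe u

open CategoryTheory CategoryTheory.Limits AlgebraicGeometry Grpd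

namespace Groth.Agent.GrpdSep

theorem preimage_le_of_iso {K : Precoverage Scheme.{u}} (Q : MorphismProperty Scheme.{u})
    [Q.IsStableUnderBaseChange] [Q.IsStableUnderComposition] (hK : K = Scheme.precoverage Q)
    (hOI : ∀ {A B : Scheme.{u}} (m : A ⟶ B) [IsOpenImmersion m], Q m) (hUO : Q ≤ @UniversallyOpen)
    (P : MorphismProperty Scheme.{u}) [P.IsLocalAtTarget K] {X U R : Scheme.{u}} (f : X ⟶ U) (a b : R ⟶ U)
    (ha : Presieve.singleton a ∈ K U) (hb : Presieve.singleton b ∈ K U)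
    (e : pullback f b ≅ pullback f a) (he : e.hom ≫ pullback.snd f a = pullback.snd f b)
    (W : U.Opens) (hW : P (f ∣_ W)) (hmax : ∀ W' : U.Opens, P (f ∣_ W') → W' ≤ W) : b ⁻¹ᵁ W ≤ a ⁻¹ᵁ W := by
  subst hK
  rw [Scheme.singleton_mem_precoverage_iff] at ha hb
  let V := b ⁻¹ᵁ W
  let q := pullback.snd (f ∣_ W) (b ∣_ W)
  have hq : P q := by
    refine MorphismProperty.IsLocalAtTarget.pullbackSnd (K := Scheme.precoverage Q) (R := Presieve.singleton (b ∣_ W)) ?_ ⟨⟩ hW
    rw [Scheme.singleton_mem_precoverage_iff]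
    refine ⟨fun w => ?_, Q.of_isPullback (isPullback_morphismRestrict b W).flip hb.2⟩
    obtain ⟨r, hr⟩ := hb.1 w.1
    exact ⟨⟨r, show b r ∈ W from hr ▸ w.2⟩, Subtype.ext (by simp [morphismRestrict_base, hr])⟩
  -- `q` is also a base change of `f` along `a` restricted to `V`
  have h1 : IsPullback (pullback.fst (f ∣_ W) (b ∣_ W) ≫ (f ⁻¹ᵁ W).ι) q f (V.ι ≫ b) := by
    have := (IsPullback.of_hasPullback (f ∣_ W) (b ∣_ W)).paste_horiz (isPullback_morphismRestrict f W).flip
    rwa [morphismRestrict_ι] at this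
  obtain ⟨l, hl⟩ : ∃ l, IsPullback l q (pullback.snd f b) V.ι :=
    ⟨_, IsPullback.of_right (h₁₁ := pullback.lift (pullback.fst (f ∣_ W) (b ∣_ W) ≫ (f ⁻¹ᵁ W).ι) (q ≫ V.ι)
      (by rw [Category.assoc q]; exact h1.w)) (by rw [pullback.lift_fst]; exact h1) (pullback.lift_snd _ _ _)
      (IsPullback.of_hasPullback f b)⟩
  have hab : IsPullback (e.hom ≫ pullback.fst f a) (pullback.snd f b) f a :=
    IsPullback.of_iso (IsPullback.of_hasPullback f a) e.symm (Iso.refl _) (Iso.refl _) (Iso.refl _)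
      (by simp) (by simp [← he]) (by simp) (by simp)
  have h2 : IsPullback (l ≫ e.hom ≫ pullback.fst f a) q f (V.ι ≫ a) := hl.paste_horiz hab
  haveI : UniversallyOpen a := hUO _ ha.2
  let O : U.Opens := ⟨a '' (V : Set R), a.isOpenMap _ V.2⟩
  have hrange : Set.range (V.ι ≫ a) ⊆ Set.range O.ι := by
    rintro _ ⟨v, rfl⟩
    rw [Scheme.Opens.range_ι]
    exact ⟨v.1, v.2, rfl⟩
  let a' := IsOpenImmersion.lift O.ι (V.ι ≫ a) hrange
  have ha' : a' ≫ O.ι = V.ι ≫ a := IsOpenImmersion.lift_fac _ _ _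
  have hP : P (f ∣_ O) := by
    refine MorphismProperty.IsLocalAtTarget.of_forall_pullbackSnd
      (K := Scheme.precoverage Q) (R := Presieve.singleton a') ?_ ?_
    · rw [Scheme.singleton_mem_precoverage_iff]
      refine ⟨fun o => ?_, ?_⟩
      · obtain ⟨r, hr, hro⟩ := o.2
        refine ⟨⟨r, hr⟩, Subtype.ext ?_⟩
        have := congrArg (fun m : (V : Scheme.{u}) ⟶ U => m (⟨r, hr⟩ : V)) ha'
        exact this.trans hro
      · have hmono : IsPullback (𝟙 _) a' (V.ι ≫ a) O.ι :=
          ⟨⟨by simp [ha']⟩, ⟨PullbackCone.IsLimit.mk _ (fun c => c.fst) (fun c => Category.comp_id _)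
            (fun c => by rw [← cancel_mono O.ι, Category.assoc, ha']; exact c.condition)
            (fun c m h _ => (Category.comp_id m).symm.trans h)⟩⟩
        exact Q.of_isPullback hmono (Q.comp_mem _ _ (hOI V.ι) ha.2)
    · intro Z g _ hg
      obtain ⟨⟩ := hg
      rw [← ha'] at h2
      obtain ⟨m, hm⟩ : ∃ m, IsPullback m q (f ∣_ O) a' :=
        ⟨_, IsPullback.of_right (h₁₁ := (isPullback_morphismRestrict f O).flip.lift (l ≫ e.hom ≫ pullback.fst f a) (q ≫ a')
          (by rw [h2.w, Category.assoc])) (by rw [IsPullback.lift_fst]; exact h2) (IsPullback.lift_snd _ _ _ _)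
          (isPullback_morphismRestrict f O).flip⟩
      rw [← P.cancel_left_of_respectsIso hm.isoPullback.hom, hm.isoPullback_hom_snd]
      exact hq
  intro r hr
  exact hmax O hP ⟨r, hr, rfl⟩

theorem preimage_eq_of_le {S : Scheme.{u}} (G : GroupoidScheme S) (W : G.U.Opens)
    (h : G.t ⁻¹ᵁ W ≤ G.s ⁻¹ᵁ W) : G.s ⁻¹ᵁ W = G.t ⁻¹ᵁ W := by
  refine le_antisymm (fun r hr => ?_) h
  have e1 : ∀ x, G.t (G.i x) = G.s x := fun x => by rw [← Scheme.Hom.comp_apply, G.i_t]
  have e2 : ∀ x, G.s (G.i x) = G.t x := fun x => by rw [← Scheme.Hom.comp_apply, G.i_s]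
  have : G.s (G.i r) ∈ W := h (show G.t (G.i r) ∈ W by rw [e1]; exact hr)
  show G.t r ∈ W
  rwa [← e2]

theorem exists_precoverage {K : Precoverage Scheme.{u}}
    (hK : K = Scheme.zariskiPrecoverage ∨ K = Scheme.etalePrecoverage ∨ K = Scheme.precoverage @Smooth ∨ K = Scheme.fppfPrecoverage) :
    ∃ (Q : MorphismProperty Scheme.{u}) (_ : Q.IsStableUnderBaseChange) (_ : Q.IsStableUnderComposition),
      K = Scheme.precoverage Q ∧ (∀ {A B : Scheme.{u}} (m : A ⟶ B) [IsOpenImmersion m], Q m) ∧ Q ≤ @UniversallyOpen := by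
  rcases hK with rfl | rfl | rfl | rfl
  · exact ⟨@IsOpenImmersion, inferInstance, inferInstance, rfl, fun m h => h, fun _ _ m hm => by haveI := hm; infer_instance⟩
  · exact ⟨@Etale, inferInstance, inferInstance, rfl, fun m h => inferInstance, fun _ _ m hm => by haveI := hm; infer_instance⟩
  · exact ⟨@Smooth, inferInstance, inferInstance, rfl, fun m h => inferInstance, fun _ _ m hm => by haveI := hm; infer_instance⟩
  · refine ⟨@Flat ⊓ @LocallyOfFinitePresentation, inferInstance, inferInstance, rfl, fun m h => ⟨inferInstance, inferInstance⟩,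
      fun _ _ m hm => ?_⟩
    haveI := hm.1; haveI := hm.2; infer_instance

/-- `(α, β) ↦ (α ∘ β, β)`. -/
noncomputable def shearST {S : Scheme.{u}} (G : GroupoidScheme S) : pullback G.s G.t ≅ pullback G.s G.s where
  hom := pullback.lift G.c (pullback.snd G.s G.t) (by
    have := G.comp_s (pullback.fst G.s G.t) (pullback.snd G.s G.t) pullback.condition
    rwa [show pullback.lift (pullback.fst G.s G.t) (pullback.snd G.s G.t) pullback.condition = 𝟙 _ by
      ext <;> simp, Category.id_comp] at this)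
  inv := pullback.lift (pullback.lift (pullback.fst G.s G.s) (pullback.snd G.s G.s ≫ G.i)
      (by rw [Category.assoc, G.i_t]; exact pullback.condition) ≫ G.c) (pullback.snd G.s G.s)
      (by rw [G.comp_s, Category.assoc, G.i_s])
  hom_inv_id := by
    apply pullback.hom_ext
    · simp only [Category.assoc, pullback.lift_fst, Category.id_comp]
      have e := G.assoc (pullback.fst G.s G.t) (pullback.snd G.s G.t) (pullback.snd G.s G.t ≫ G.i)
        pullback.condition (by rw [Category.assoc, G.i_t])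
      refine Eq.trans ?_ (e.trans ?_)
      · rw [← Category.assoc]
        congr 1
        apply pullback.hom_ext
        · simp only [Category.assoc, pullback.lift_fst]
          rw [show pullback.lift (pullback.fst G.s G.t) (pullback.snd G.s G.t) pullback.condition = 𝟙 _ by
            ext <;> simp, Category.id_comp]
        · simp
      · conv_rhs => rw [← G.comp_e (pullback.fst G.s G.t)]
        congr 1
        apply pullback.hom_ext
        · simp
        · simp [G.comp_i, pullback.condition_assoc]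
    · simp
  inv_hom_id := by
    apply pullback.hom_ext
    · simp only [Category.assoc, pullback.lift_fst, Category.id_comp]
      have hst : pullback.fst G.s G.s ≫ G.s = pullback.snd G.s G.s ≫ G.s := pullback.condition
      have e := G.assoc (pullback.fst G.s G.s) (pullback.snd G.s G.s ≫ G.i) (pullback.snd G.s G.s)
        (by rw [Category.assoc, G.i_t, hst]) (by rw [Category.assoc, G.i_s])
      refine e.trans ?_
      conv_rhs => rw [← G.comp_e (pullback.fst G.s G.s)]
      congr 1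
      apply pullback.hom_ext
      · simp
      · simp only [pullback.lift_snd, G.i_comp, reassoc_of% hst]
    · simp

end Groth.Agent.GrpdSep

namespace Groth.Agent.GrpdSep

variable {S : Scheme.{u}} (G : GroupoidScheme S)

/-- Composition of points. -/
noncomputable irreducible_def mulPt {T : Scheme.{u}} (α β : T ⟶ G.R) (h : α ≫ G.s = β ≫ G.t) : T ⟶ G.R :=
  pullback.lift α β h ≫ G.c

variable {T : Scheme.{u}} {α β γ : T ⟶ G.R}

theorem mulPt_s (h : α ≫ G.s = β ≫ G.t) : mulPt G α β h ≫ G.s = β ≫ G.s := by rw [mulPt_def]; exact G.comp_s α β h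

theorem mulPt_t (h : α ≫ G.s = β ≫ G.t) : mulPt G α β h ≫ G.t = α ≫ G.t := by rw [mulPt_def]; exact G.comp_t α β h

theorem mulPt_congr {α' β' : T ⟶ G.R} (h : α ≫ G.s = β ≫ G.t) (h₁ : α = α') (h₂ : β = β') :
    mulPt G α β h = mulPt G α' β' (h₁ ▸ h₂ ▸ h) := by subst h₁; subst h₂; rfl

theorem mulPt_comp {T' : Scheme.{u}} (q : T' ⟶ T) (h : α ≫ G.s = β ≫ G.t) :
    q ≫ mulPt G α β h = mulPt G (q ≫ α) (q ≫ β) (by rw [Category.assoc, h, Category.assoc]) := by
  rw [mulPt_def, mulPt_def, ← Category.assoc]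
  congr 1
  apply pullback.hom_ext <;> simp

theorem cancel_left (h : (β ≫ G.i) ≫ G.s = α ≫ G.t) :
    mulPt G β (mulPt G (β ≫ G.i) α h) (by rw [mulPt_t, Category.assoc, G.i_t]) = α := by
  have h' : β ≫ G.t = α ≫ G.t := by rw [← h, Category.assoc, G.i_s]
  simp only [mulPt_def]
  refine (G.assoc β (β ≫ G.i) α (by rw [Category.assoc, G.i_t]) h).symm.trans ?_
  conv_rhs => rw [← G.e_comp α]
  congr 1
  apply pullback.hom_ext <;> simp [G.comp_i, reassoc_of% h']

theorem cancel_left' (h : β ≫ G.s = α ≫ G.t) :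
    mulPt G (β ≫ G.i) (mulPt G β α h) (by rw [mulPt_t, Category.assoc, G.i_s]) = α := by
  simp only [mulPt_def]
  refine (G.assoc (β ≫ G.i) β α (by rw [Category.assoc, G.i_s]) h).symm.trans ?_
  conv_rhs => rw [← G.e_comp α]
  congr 1
  apply pullback.hom_ext <;> simp [G.i_comp, reassoc_of% h]

theorem cancel_right (h : α ≫ G.s = β ≫ G.t) :
    mulPt G (mulPt G α β h) (β ≫ G.i) (by rw [mulPt_s, Category.assoc, G.i_t]) = α := by
  simp only [mulPt_def]
  refine (G.assoc α β (β ≫ G.i) h (by rw [Category.assoc, G.i_t])).trans ?_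
  conv_rhs => rw [← G.comp_e α]
  congr 1
  apply pullback.hom_ext <;> simp [G.comp_i, ← reassoc_of% h]

theorem cancel_right' (h : α ≫ G.s = (β ≫ G.i) ≫ G.t) :
    mulPt G (mulPt G α (β ≫ G.i) h) β (by rw [mulPt_s, Category.assoc, G.i_s]) = α := by
  have h' : α ≫ G.s = β ≫ G.s := by rw [h, Category.assoc, G.i_t]
  simp only [mulPt_def]
  refine (G.assoc α (β ≫ G.i) β h (by rw [Category.assoc, G.i_s])).trans ?_
  conv_rhs => rw [← G.comp_e α]
  congr 1
  apply pullback.hom_ext <;> simp [G.i_comp, ← reassoc_of% h']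

theorem stab_t : pullback.fst G.j G.diag ≫ G.t = pullback.snd G.j G.diag := by
  have := congrArg (· ≫ pullback.fst G.pU G.pU) (pullback.condition (f := G.j) (g := G.diag))
  simpa [j_fst, diag_fst] using this

theorem stab_s : pullback.fst G.j G.diag ≫ G.s = pullback.snd G.j G.diag := by
  have := congrArg (· ≫ pullback.snd G.pU G.pU) (pullback.condition (f := G.j) (g := G.diag))
  simpa [j_snd, diag_snd] using this

theorem conj_left {g r d : T ⟶ G.R} (hg : g ≫ G.s = r ≫ G.t) (hd : (r ≫ G.i) ≫ G.s = mulPt G g r hg ≫ G.t)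
    (e : d = mulPt G (r ≫ G.i) (mulPt G g r hg) hd) (h₁ : r ≫ G.s = d ≫ G.t)
    (h₂ : mulPt G r d h₁ ≫ G.s = (r ≫ G.i) ≫ G.t) : mulPt G (mulPt G r d h₁) (r ≫ G.i) h₂ = g := by
  subst e
  exact (mulPt_congr G _ (cancel_left G (β := r) hd) rfl).trans (cancel_right G hg)

theorem conj_right {g r d : T ⟶ G.R} (hg : r ≫ G.s = g ≫ G.t) (hd : mulPt G r g hg ≫ G.s = (r ≫ G.i) ≫ G.t)
    (e : d = mulPt G (mulPt G r g hg) (r ≫ G.i) hd) (h₁ : d ≫ G.s = r ≫ G.t)
    (h₂ : (r ≫ G.i) ≫ G.s = mulPt G d r h₁ ≫ G.t) : mulPt G (r ≫ G.i) (mulPt G d r h₁) h₂ = g := by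
  subst e
  exact (mulPt_congr G _ rfl (cancel_right' G (β := r) hd)).trans (cancel_left' G hg)

/-- Conjugation of stabilizers along arrows. -/
theorem exists_stabConj :
    ∃ e : pullback (pullback.snd G.j G.diag) G.t ≅ pullback (pullback.snd G.j G.diag) G.s,
      e.hom ≫ pullback.snd (pullback.snd G.j G.diag) G.s = pullback.snd (pullback.snd G.j G.diag) G.t := by
  let g := pullback.fst (pullback.snd G.j G.diag) G.t ≫ pullback.fst G.j G.diag
  let r := pullback.snd (pullback.snd G.j G.diag) G.t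
  let g' := pullback.fst (pullback.snd G.j G.diag) G.s ≫ pullback.fst G.j G.diag
  let r' := pullback.snd (pullback.snd G.j G.diag) G.s
  have hg : g ≫ G.s = r ≫ G.t := by
    rw [Category.assoc, stab_s]; exact pullback.condition
  have hgt : g ≫ G.t = r ≫ G.t := by
    rw [Category.assoc, stab_t]; exact pullback.condition
  have hg' : g' ≫ G.t = r' ≫ G.s := by
    rw [Category.assoc, stab_t]; exact pullback.condition
  have hgs' : g' ≫ G.s = r' ≫ G.s := by
    rw [Category.assoc, stab_s]; exact pullback.condition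
  have hd : (r ≫ G.i) ≫ G.s = mulPt G g r hg ≫ G.t := by rw [mulPt_t, hgt, Category.assoc, G.i_s]
  obtain ⟨d, hdd⟩ : ∃ d, d = mulPt G (r ≫ G.i) (mulPt G g r hg) hd := ⟨_, rfl⟩
  have hd' : mulPt G r' g' hg'.symm ≫ G.s = (r' ≫ G.i) ≫ G.t := by rw [mulPt_s, hgs', Category.assoc, G.i_t]
  obtain ⟨d', hdd'⟩ : ∃ d', d' = mulPt G (mulPt G r' g' hg'.symm) (r' ≫ G.i) hd' := ⟨_, rfl⟩
  have hds : d ≫ G.t = r ≫ G.s ∧ d ≫ G.s = r ≫ G.s := by
    subst hdd
    constructor
    · rw [mulPt_t, Category.assoc, G.i_t]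
    · rw [mulPt_s, mulPt_s]
  have hds' : d' ≫ G.t = r' ≫ G.t ∧ d' ≫ G.s = r' ≫ G.t := by
    subst hdd'
    constructor
    · rw [mulPt_t, mulPt_t]
    · rw [mulPt_s, Category.assoc, G.i_s]
  obtain ⟨φ, e1, e2⟩ : ∃ φ : pullback (pullback.snd G.j G.diag) G.t ⟶ pullback (pullback.snd G.j G.diag) G.s,
      φ ≫ r' = r ∧ φ ≫ g' = d :=
    ⟨pullback.lift (pullback.lift d (r ≫ G.s) (by
      apply pullback.hom_ext
      · simp [j_fst, diag_fst, hds.1]
      · simp [j_snd, diag_snd, hds.2])) r (pullback.lift_snd _ _ _), pullback.lift_snd _ _ _, by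
        rw [← Category.assoc, pullback.lift_fst, pullback.lift_fst]⟩
  obtain ⟨ψ, e3, e4⟩ : ∃ ψ : pullback (pullback.snd G.j G.diag) G.s ⟶ pullback (pullback.snd G.j G.diag) G.t,
      ψ ≫ r = r' ∧ ψ ≫ g = d' :=
    ⟨pullback.lift (pullback.lift d' (r' ≫ G.t) (by
      apply pullback.hom_ext
      · simp [j_fst, diag_fst, hds'.1]
      · simp [j_snd, diag_snd, hds'.2])) r' (pullback.lift_snd _ _ _), pullback.lift_snd _ _ _, by
        rw [← Category.assoc, pullback.lift_fst, pullback.lift_fst]⟩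
  have h1 : φ ≫ d' = g := by
    rw [hdd', mulPt_comp]
    have hA : φ ≫ mulPt G r' g' hg'.symm = mulPt G r d (hds.1.symm) := by
      rw [mulPt_comp]; exact mulPt_congr G _ e1 e2
    refine (mulPt_congr G _ hA (by rw [← Category.assoc, e1])).trans ?_
    exact conj_left G hg hd hdd _ _
  have h2 : ψ ≫ d = g' := by
    rw [hdd, mulPt_comp]
    have hA : ψ ≫ mulPt G g r hg = mulPt G d' r' hds'.2 := by
      rw [mulPt_comp]; exact mulPt_congr G _ e4 e3
    refine (mulPt_congr G _ (by rw [← Category.assoc, e3]) hA).trans ?_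
    exact conj_right G hg'.symm hd' hdd' _ _
  have x1 : ∀ {Z : Scheme.{u}} (m m' : Z ⟶ pullback (pullback.snd G.j G.diag) G.t), m ≫ g = m' ≫ g → m ≫ r = m' ≫ r → m = m' := by
    intro Z m m' hg0 hr0
    refine pullback.hom_ext (pullback.hom_ext (by simpa [g] using hg0) ?_) hr0
    rw [Category.assoc, Category.assoc, pullback.condition (f := pullback.snd G.j G.diag) (g := G.t),
      ← Category.assoc, ← Category.assoc]
    exact congrArg (· ≫ G.t) hr0
  have x2 : ∀ {Z : Scheme.{u}} (m m' : Z ⟶ pullback (pullback.snd G.j G.diag) G.s), m ≫ g' = m' ≫ g' → m ≫ r' = m' ≫ r' → m = m' := by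
    intro Z m m' hg0 hr0
    refine pullback.hom_ext (pullback.hom_ext (by simpa [g'] using hg0) ?_) hr0
    rw [Category.assoc, Category.assoc, pullback.condition (f := pullback.snd G.j G.diag) (g := G.s),
      ← Category.assoc, ← Category.assoc]
    exact congrArg (· ≫ G.s) hr0
  exact ⟨⟨φ, ψ, x1 _ _ (by rw [Category.assoc, e4, h1, Category.id_comp]) (by rw [Category.assoc, e3, e1, Category.id_comp]),
    x2 _ _ (by rw [Category.assoc, e2, h2, Category.id_comp]) (by rw [Category.assoc, e1, e3, Category.id_comp])⟩, e1⟩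

end Groth.Agent.GrpdSep
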