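import Groth.Agent.GrpdSep.Cartier
import Groth.Agent.GrpdSep.Dim
import Groth.Agent.GrpdSep.GeomIrred
import Groth.Agent.SmoothPt.Basic

/-!
Smoothness of groupoids over a field.
-/

set_option autoImplicit false
set_option linter.style.haveILetI false
set_option backward.isDefEq.respectTransparency false

universe u

open CategoryTheory CategoryTheory.Limits AlgebraicGeometry Grpd

namespace Groth.Agent.GrpdSep

/-- Every morphism to the spectrum of a field is flat. -/
theorem flat_toSpecField {K : Type u} [Field K] {L : CommRingCat.{u}} (φ : CommRingCat.of K ⟶ L) :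
    Flat (Spec.map φ) := by
  rw [Flat.SpecMap_iff]
  algebraize [φ.hom]
  exact inferInstanceAs (Module.Flat K L)

/-- A reduced local ring on a locally noetherian scheme spreads to a reduced neighbourhood. -/
theorem exists_isReduced_nhd {X : Scheme.{u}} [IsLocallyNoetherian X] (x : X)
    (h : _root_.IsReduced (X.presheaf.stalk x)) :
    ∃ U : X.Opens, x ∈ U ∧ IsReduced (U : Scheme.{u}) := by
  obtain ⟨_, ⟨V, hV, rfl⟩, hxV, -⟩ :=
    X.isBasis_affineOpens.exists_subset_of_mem_open (Set.mem_univ x) isOpen_univ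
  haveI : IsNoetherianRing Γ(X, V) := IsLocallyNoetherian.component_noetherian ⟨V, hV⟩
  let P := (hV.primeIdealOf ⟨x, hxV⟩).asIdeal
  let _ := TopCat.Presheaf.algebra_section_stalk X.presheaf (U := V) ⟨x, hxV⟩
  haveI : IsLocalization.AtPrime (X.presheaf.stalk x) P := hV.isLocalization_stalk ⟨x, hxV⟩
  obtain ⟨S, hS⟩ := IsNoetherian.noetherian (nilradical Γ(X, V))
  have hk : ∀ a ∈ S, ∃ g : P.primeCompl, (g : Γ(X, V)) * a = 0 := fun a ha => by
    have : IsNilpotent a := mem_nilradical.1 (hS ▸ Submodule.subset_span ha)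
    exact (IsLocalization.map_eq_zero_iff P.primeCompl (X.presheaf.stalk x) a).1
      (this.map (algebraMap Γ(X, V) (X.presheaf.stalk x))).eq_zero
  choose g hg using hk
  let g₀ : P.primeCompl := ∏ a : S, g a.1 a.2
  have hg₀ : ∀ a ∈ nilradical Γ(X, V), (g₀ : Γ(X, V)) * a = 0 := fun a ha => by
    have ha' : a ∈ Submodule.span Γ(X, V) (S : Set Γ(X, V)) := hS.symm ▸ ha
    clear ha
    induction ha' using Submodule.span_induction with
    | mem b hb =>
      obtain ⟨c, hc⟩ : g b hb ∣ g₀ := Finset.dvd_prod_of_mem (fun a : S => g a.1 a.2) (Finset.mem_univ (⟨b, hb⟩ : S))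
      rw [hc, Submonoid.coe_mul, mul_right_comm, hg b hb, zero_mul]
    | zero => exact mul_zero _
    | add b c hb hc h₁ h₂ => rw [mul_add, h₁, h₂, add_zero]
    | smul r b hb h₁ => rw [smul_eq_mul, mul_left_comm, h₁, mul_zero]
  have hx : x ∈ X.basicOpen (g₀ : Γ(X, V)) := by
    rw [Scheme.mem_basicOpen X _ x hxV]
    exact IsLocalization.map_units (X.presheaf.stalk x) g₀
  refine ⟨X.basicOpen (g₀ : Γ(X, V)), hx, ?_⟩
  have hD := hV.basicOpen (g₀ : Γ(X, V))
  haveI : IsAffine (X.basicOpen (g₀ : Γ(X, V)) : Scheme.{u}) := hD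
  haveI := hV.isLocalization_basicOpen (g₀ : Γ(X, V))
  have hred : _root_.IsReduced Γ(X, X.basicOpen (g₀ : Γ(X, V))) := by
    refine ⟨fun z hz => ?_⟩
    obtain ⟨a, s, rfl⟩ := IsLocalization.exists_mk'_eq (Submonoid.powers (g₀ : Γ(X, V))) z
    obtain ⟨k, hk⟩ := hz
    rw [← IsLocalization.mk'_pow, IsLocalization.mk'_eq_zero_iff] at hk
    obtain ⟨⟨_, m, rfl⟩, hm⟩ := hk
    refine (IsLocalization.mk'_eq_zero_iff _ _).2 ⟨⟨_, 2, rfl⟩, ?_⟩
    have : IsNilpotent ((g₀ : Γ(X, V)) * a) := by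
      refine ⟨m + k, ?_⟩
      rw [mul_pow, pow_add, pow_add]
      simp only at hm
      linear_combination ((g₀ : Γ(X, V)) ^ k * a ^ m) * hm
    have := hg₀ _ (mem_nilradical.2 this)
    simp only
    rw [pow_two, mul_assoc, this]
  haveI : _root_.IsReduced Γ(X.basicOpen (g₀ : Γ(X, V)), ⊤) :=
    isReduced_of_injective _ (X.basicOpen (g₀ : Γ(X, V))).topIso.commRingCatIsoToRingEquiv.injective
  haveI := (affine_isReduced_iff Γ(X.basicOpen (g₀ : Γ(X, V)), ⊤)).2 ‹_›
  exact isReduced_of_isOpenImmersion (X.basicOpen (g₀ : Γ(X, V)) : Scheme.{u}).isoSpec.hom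

variable {S : Scheme.{u}} (G : GroupoidScheme S) {k : Type u} [Field k]
  (eU : G.U ≅ Spec (CommRingCat.of k)) [LocallyOfFiniteType G.s]
  [LocallyOfFinitePresentation (G.s ≫ eU.hom)]

/-- Smoothness of the source is independent of the point. -/
theorem mem_smoothLocus_iff_e (r : G.R) :
    r ∈ (G.s ≫ eU.hom).smoothLocus ↔
      G.e (eU.inv (IsLocalRing.closedPoint k)) ∈ (G.s ≫ eU.hom).smoothLocus := by
  haveI := subsingleton_U (G := G) eU
  let K := G.R.residueField r
  let β : Spec K ⟶ G.R := G.R.fromSpecResidueField r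
  obtain ⟨φ₁, hφ₁⟩ := Spec.map_surjective (β ≫ G.s ≫ eU.hom)
  obtain ⟨φ₂, hφ₂⟩ := Spec.map_surjective (β ≫ G.t ≫ eU.hom)
  obtain ⟨ψ, hψp, hψ⟩ := exists_translateIso G eU.hom β
  let q : Spec K ⟶ pullback (G.s ≫ eU.hom) (β ≫ G.t ≫ eU.hom) :=
    pullback.lift ((β ≫ G.t) ≫ G.e) (𝟙 _) (by simp [reassoc_of% G.e_s])
  let pt : Spec K := IsLocalRing.closedPoint K
  haveI : LocallyOfFinitePresentation (pullback.snd (G.s ≫ eU.hom) (β ≫ G.t ≫ eU.hom)) :=
    MorphismProperty.pullback_snd _ _ inferInstance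
  haveI : LocallyOfFinitePresentation (pullback.snd (G.s ≫ eU.hom) (β ≫ G.s ≫ eU.hom)) :=
    MorphismProperty.pullback_snd _ _ inferInstance
  have h₁ := SmoothPt.smoothLocus_baseChange (G.s ≫ eU.hom)
    (IsPullback.of_hasPullback (G.s ≫ eU.hom) (β ≫ G.s ≫ eU.hom))
    (Or.inr (hφ₁ ▸ flat_toSpecField φ₁))
  have h₂ := SmoothPt.smoothLocus_baseChange (G.s ≫ eU.hom)
    (IsPullback.of_hasPullback (G.s ≫ eU.hom) (β ≫ G.t ≫ eU.hom))
    (Or.inr (hφ₂ ▸ flat_toSpecField φ₂))
  have h₃ := Scheme.Hom.preimage_smoothLocus_eq (f := ψ.hom)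
    (g := pullback.snd (G.s ≫ eU.hom) (β ≫ G.s ≫ eU.hom))
  simp only [hψp] at h₃
  rw [h₁, h₂] at h₃
  have h₄ := SetLike.ext_iff.1 h₃ (q pt)
  simp only [Scheme.Hom.mem_preimage, ← Scheme.Hom.comp_apply] at h₄
  erw [hψ q (pullback.lift_fst _ _ _) (pullback.lift_snd _ _ _), pullback.lift_fst] at h₄
  have hr : β pt = r := G.R.fromSpecResidueField_apply r _
  have he : ((β ≫ G.t) ≫ G.e) pt = G.e (eU.inv (IsLocalRing.closedPoint k)) :=
    congrArg G.e (Subsingleton.elim _ _)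
  rw [hr, he] at h₄
  exact h₄

include eU in
omit [LocallyOfFinitePresentation (G.s ≫ eU.hom)] in
/-- A smooth point makes the source and target smooth. -/
theorem smooth_of_isReduced_nhd [PerfectField k] {U : G.R.Opens}
    (hU : G.e (eU.inv (IsLocalRing.closedPoint k)) ∈ U) [IsReduced (U : Scheme.{u})] :
    Smooth G.s ∧ Smooth G.t := by
  let f := G.s ≫ eU.hom
  haveI : LocallyOfFinitePresentation f := LocallyOfFinitePresentation.iff_locallyOfFiniteType.2 inferInstance
  haveI : Nonempty U := ⟨⟨_, hU⟩⟩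
  haveI : LocallyOfFinitePresentation (U.ι ≫ f) := inferInstance
  obtain ⟨z, hz⟩ := (U.ι ≫ f).dense_smoothLocus_of_perfectField.nonempty
  rw [← Scheme.Hom.preimage_smoothLocus_eq, SetLike.mem_coe, Scheme.Hom.mem_preimage] at hz
  have he := (mem_smoothLocus_iff_e G eU _).1 hz
  haveI : Smooth f := Scheme.Hom.smoothLocus_eq_top_iff.1
    (top_unique fun r _ => (mem_smoothLocus_iff_e G eU r).2 he)
  have hs : Smooth G.s := by
    have : G.s = f ≫ eU.inv := by simp [f]
    rw [this]; infer_instance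
  haveI := hs
  exact ⟨hs, by rw [← G.i_s]; infer_instance⟩

include eU in
omit [LocallyOfFinitePresentation (G.s ≫ eU.hom)] in
theorem smooth_of_charZero [CharZero k] : Smooth G.s ∧ Smooth G.t := by
  haveI : IsLocallyNoetherian G.R := LocallyOfFiniteType.isLocallyNoetherian (G.s ≫ eU.hom)
  haveI := isDomain_stalk_e G eU
  obtain ⟨U, hU, h⟩ := exists_isReduced_nhd (G.e (eU.inv (IsLocalRing.closedPoint k))) inferInstance
  exact smooth_of_isReduced_nhd G eU hU

end Groth.Agent.GrpdSep
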