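import Groth.Agent.GrpdSep.MaxOpen

/-!
The stabilizer acts simply transitively on arrows with fixed source and target.
-/

set_option autoImplicit false
set_option linter.style.haveILetI false
set_option backward.isDefEq.respectTransparency false

universe u

open CategoryTheory CategoryTheory.Limits AlgebraicGeometry Grpd

namespace Groth.Agent.GrpdSep

variable {S : Scheme.{u}} (G : GroupoidScheme S)

theorem isIso_torsorMap (α : pullback (pullback.snd G.j G.diag) G.t ⟶ pullback G.s G.t)
    (hα₁ : α ≫ pullback.fst G.s G.t = pullback.fst (pullback.snd G.j G.diag) G.t ≫ pullback.fst G.j G.diag)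
    (hα₂ : α ≫ pullback.snd G.s G.t = pullback.snd (pullback.snd G.j G.diag) G.t)
    (β : pullback (pullback.snd G.j G.diag) G.t ⟶ pullback G.j G.j)
    (hβ₁ : β ≫ pullback.fst G.j G.j = α ≫ G.c)
    (hβ₂ : β ≫ pullback.snd G.j G.j = pullback.snd (pullback.snd G.j G.diag) G.t) : IsIso β := by
  let g := pullback.fst (pullback.snd G.j G.diag) G.t ≫ pullback.fst G.j G.diag
  let r := pullback.snd (pullback.snd G.j G.diag) G.t
  have hg : g ≫ G.s = r ≫ G.t := by
    rw [Category.assoc, stab_s]; exact pullback.condition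
  have h0 : pullback.fst G.j G.j ≫ G.s = (pullback.snd G.j G.j ≫ G.i) ≫ G.t := by
    rw [Category.assoc, G.i_t, comm_s]
  have hα : α ≫ G.c = mulPt G g r hg := by
    rw [mulPt_def]
    congr 1
    apply pullback.hom_ext <;> simp [g, r, hα₁, hα₂]
  have hd : diffMap G ≫ pullback.fst G.j G.diag = mulPt G (pullback.fst G.j G.j) (pullback.snd G.j G.j ≫ G.i) h0 := by
    rw [mulPt_def]; exact pullback.lift_fst _ _ _
  obtain ⟨ψ, e1, e2⟩ : ∃ ψ : pullback G.j G.j ⟶ pullback (pullback.snd G.j G.diag) G.t,
      ψ ≫ g = mulPt G (pullback.fst G.j G.j) (pullback.snd G.j G.j ≫ G.i) h0 ∧ ψ ≫ r = pullback.snd G.j G.j :=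
    ⟨pullback.lift (diffMap G) (pullback.snd G.j G.j) (by rw [← comm_t]; exact pullback.lift_snd _ _ _),
      by rw [← hd]; simp only [g]; rw [← Category.assoc, pullback.lift_fst], pullback.lift_snd _ _ _⟩
  refine ⟨ψ, ?_, ?_⟩
  · have hG : (β ≫ ψ) ≫ g = g := by
      rw [Category.assoc, e1, mulPt_comp]
      refine (mulPt_congr G _ (hβ₁.trans hα) ?_).trans (cancel_right G hg)
      rw [← Category.assoc, hβ₂]
    have hR : (β ≫ ψ) ≫ r = r := by rw [Category.assoc, e2, hβ₂]
    refine pullback.hom_ext (pullback.hom_ext (by simpa [g] using hG) ?_) (hR.trans (Category.id_comp r).symm)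
    rw [Category.assoc, Category.assoc, Category.assoc, pullback.condition (f := pullback.snd G.j G.diag) (g := G.t),
      Category.id_comp, ← Category.assoc ψ, e2, ← Category.assoc β, hβ₂]
  · apply pullback.hom_ext
    · rw [Category.assoc, hβ₁, hα, mulPt_comp, Category.id_comp]
      exact (mulPt_congr G _ e1 e2).trans (cancel_right' G h0)
    · rw [Category.assoc, hβ₂, Category.id_comp]; exact e2

end Groth.Agent.GrpdSep
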